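import Cfsg.Agent.Lib.LinGroup.Generation
import Cfsg.Agent.Lib.LinGroup.Order
import Cfsg.Prelude.Def_GeometricClasses

/-!
General transvections `x ↦ x + (a ⬝ x) v`, `a ⬝ v = 0`, inside `GL`.
-/

set_option autoImplicit false

namespace Cfsg.Agent.Lib.FormMax

open Matrix

variable {ι : Type} [Fintype ι] [DecidableEq ι] {F : Type*} [Field F]

/-- The transvection with centre `v` and axis `a ⬝ x = 0`. -/
def Tr (v a : ι → F) (h : a ⬝ᵥ v = 0) : GL ι F :=
  ⟨1 + vecMulVec v a, 1 - vecMulVec v a,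
    by rw [add_mul, one_mul, mul_sub, mul_one, vecMulVec_mul_vecMulVec, h]; simp,
    by rw [sub_mul, one_mul, mul_add, mul_one, vecMulVec_mul_vecMulVec, h]; simp⟩

theorem Tr_mulVec (v a : ι → F) (h : a ⬝ᵥ v = 0) (x : ι → F) :
    (Tr v a h : Matrix ι ι F) *ᵥ x = x + (a ⬝ᵥ x) • v := by
  show (1 + vecMulVec v a) *ᵥ x = _
  rw [add_mulVec, one_mulVec, vecMulVec_mulVec]
  funext i; simp

theorem gl_ext {g h : GL ι F} (e : ∀ x, (g : Matrix ι ι F) *ᵥ x = (h : Matrix ι ι F) *ᵥ x) : g = h :=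
  Units.ext (Matrix.ext_iff_mulVec.mpr e)

theorem Tr_mul (v a b : ι → F) (ha : a ⬝ᵥ v = 0) (hb : b ⬝ᵥ v = 0) :
    Tr v a ha * Tr v b hb = Tr v (a + b) (by rw [add_dotProduct, ha, hb, add_zero]) := by
  refine gl_ext fun x => ?_
  rw [Units.val_mul, ← mulVec_mulVec, Tr_mulVec, Tr_mulVec, Tr_mulVec, dotProduct_add, dotProduct_smul,
    ha, add_dotProduct, smul_zero, add_zero]
  module

theorem Tr_mem_SL (v a : ι → F) (h : a ⬝ᵥ v = 0) : Tr v a h ∈ Cfsg.Geo.specialLinear ι F := by
  show Matrix.GeneralLinearGroup.det _ = 1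
  refine Units.ext ?_
  show Matrix.det (1 + vecMulVec v a) = 1
  rw [vecMulVec_eq Unit, det_one_add_replicateCol_mul_replicateRow, h, add_zero]

theorem conj_Tr (g : GL ι F) (v a : ι → F) (h : a ⬝ᵥ v = 0) :
    g * Tr v a h * g⁻¹ =
      Tr ((g : Matrix ι ι F) *ᵥ v) (a ᵥ* ((g⁻¹ : GL ι F) : Matrix ι ι F))
        (by rw [← dotProduct_mulVec, mulVec_mulVec, ← Units.val_mul, inv_mul_cancel, Units.val_one,
          one_mulVec, h]) := by
  refine gl_ext fun x => ?_
  rw [Units.val_mul, Units.val_mul, ← mulVec_mulVec, ← mulVec_mulVec, Tr_mulVec, Tr_mulVec, mulVec_add,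
    mulVec_smul, mulVec_mulVec, ← Units.val_mul, mul_inv_cancel, Units.val_one, one_mulVec,
    dotProduct_mulVec]

/-- A subgroup of `SL` with all transvections is all of it. -/
theorem eq_SL (H : Subgroup (GL ι F)) (hH : H ≤ Cfsg.Geo.specialLinear ι F)
    (h : ∀ (v a : ι → F) (ha : a ⬝ᵥ v = 0), Tr v a ha ∈ H) : H = Cfsg.Geo.specialLinear ι F := by
  refine le_antisymm hH fun g hg => ?_
  have hK : H.comap (SpecialLinearGroup.toGL : SpecialLinearGroup ι F →* GL ι F) = ⊤ := by
    refine LinGroup.eq_top_of_transvection_mem _ fun i j hij c => ?_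
    have ha : (Pi.single j (1 : F)) ⬝ᵥ (Pi.single i c : ι → F) = 0 := by
      rw [single_dotProduct, Pi.single_eq_of_ne hij.symm, mul_zero]
    have e : SpecialLinearGroup.toGL (SpecialLinearGroup.transvection hij c) =
        Tr (Pi.single i c) (Pi.single j (1 : F)) ha := by
      refine gl_ext fun x => funext fun k => ?_
      rw [Tr_mulVec]
      show (Matrix.transvection i j c *ᵥ x) k = _
      rw [LinGroup.transvection_mulVec_apply]
      by_cases hk : k = i
      · subst hk; simp [single_dotProduct]; ring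
      · simp [hk, single_dotProduct]
    show SpecialLinearGroup.toGL (SpecialLinearGroup.transvection hij c) ∈ H
    rw [e]
    exact h _ _ _
  obtain ⟨s, hs⟩ : g ∈ (SpecialLinearGroup.toGL : SpecialLinearGroup ι F →* GL ι F).range := by
    rw [LinGroup.range_toGL]; exact hg
  have : s ∈ H.comap (SpecialLinearGroup.toGL : SpecialLinearGroup ι F →* GL ι F) := hK ▸ Subgroup.mem_top s
  exact hs ▸ this

end Cfsg.Agent.Lib.FormMax
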