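import Mathlib
import Cfsg.Agent.Lib.Orth.Siegel
import Cfsg.Agent.Lib.Forms.Basic
import Cfsg.Agent.Lib.FormMax.Trans

/-!
# Singular vectors and Eichler elements for the maximality of the orthogonal similitudes in `SL`
-/

set_option autoImplicit false
set_option linter.unusedSectionVars false

namespace Cfsg.Agent.Lib.FormMax.OrthSL

open Matrix QuadraticMap
open Cfsg.Agent.Lib

variable {ι : Type} [Fintype ι] [DecidableEq ι] {F : Type*} [Field F]
  {Q : QuadraticForm F (ι → F)}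

theorem exists_zero_fin [Finite F] (h2 : (2 : F) ≠ 0) {k : ℕ} (hk : 3 ≤ k)
    (P : QuadraticForm F (Fin k → F)) : ∃ x, x ≠ 0 ∧ P x = 0 := by
  by_cases hP : (QuadraticMap.polarBilin P).Nondegenerate
  · exact Orth.exists_singular h2 hP (by simpa using hk)
  by_contra hcon
  push Not at hcon
  have hrad : ∀ x, polar ⇑P x x = 0 → x = 0 := fun x hx => by
    by_contra hx0
    rw [Orth.polar_self_eq] at hx
    exact hcon x hx0 ((mul_eq_zero.mp hx).resolve_left h2)
  exact hP ⟨fun x hx => hrad x (hx x), fun y hy => hrad y (hy y)⟩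

theorem exists_zero_ker [Finite F] (h2 : (2 : F) ≠ 0) {k : ℕ} (φ : (ι → F) →ₗ[F] (Fin k → F))
    (P : QuadraticForm F (ι → F)) (hn : k + 3 ≤ Fintype.card ι) :
    ∃ x, x ≠ 0 ∧ φ x = 0 ∧ P x = 0 := by
  have h1 := φ.finrank_range_add_finrank_ker
  rw [Module.finrank_fintype_fun_eq_card] at h1
  have h3 : Module.finrank F φ.range ≤ k := by simpa using Submodule.finrank_le φ.range
  set d := Module.finrank F φ.ker with hd
  let L : (Fin d → F) →ₗ[F] (ι → F) :=
    φ.ker.subtype.comp (Module.finBasis F φ.ker).equivFun.symm.toLinearMap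
  have hL : Function.Injective L :=
    Subtype.val_injective.comp (Module.finBasis F φ.ker).equivFun.symm.injective
  obtain ⟨c, hc0, hc⟩ := exists_zero_fin h2 (by omega : 3 ≤ d) (P.comp L)
  refine ⟨L c, fun e => hc0 (hL (by rw [e, map_zero])), ?_, hc⟩
  exact LinearMap.mem_ker.mp ((Module.finBasis F φ.ker).equivFun.symm c).2

/-- The functionals `B (c i) ·`. -/
noncomputable def conds (Q : QuadraticForm F (ι → F)) {k : ℕ} (c : Fin k → ι → F) :
    (ι → F) →ₗ[F] (Fin k → F) :=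
  LinearMap.pi fun i => QuadraticMap.polarBilin Q (c i)

theorem conds_eq {k : ℕ} {c : Fin k → ι → F} {x : ι → F} (h : conds Q c x = 0) (i : Fin k) :
    polar ⇑Q (c i) x = 0 := congrFun h i

theorem exists_singular_conds [Finite F] (h2 : (2 : F) ≠ 0) {k : ℕ} (c : Fin k → ι → F)
    (hn : k + 3 ≤ Fintype.card ι) :
    ∃ x, x ≠ 0 ∧ Q x = 0 ∧ ∀ i, polar ⇑Q (c i) x = 0 := by
  obtain ⟨x, hx0, hx1, hx2⟩ := exists_zero_ker h2 (conds Q c) Q hn
  exact ⟨x, hx0, hx2, conds_eq hx1⟩

variable (hQ : (QuadraticMap.polarBilin Q).Nondegenerate)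
include hQ

theorem eq_zero_of_forall {w : ι → F} (h : ∀ t, polar ⇑Q w t = 0) : w = 0 := hQ.1 w h

theorem exists_dual_one {u : ι → F} (hu : u ≠ 0) : ∃ t, polar ⇑Q u t = 1 := by
  obtain ⟨t, ht⟩ : ∃ t, polar ⇑Q u t ≠ 0 := by
    by_contra h
    push Not at h
    exact hu (eq_zero_of_forall hQ h)
  exact ⟨(polar ⇑Q u t)⁻¹ • t, by rw [polar_smul_right, smul_eq_mul, inv_mul_cancel₀ ht]⟩

theorem exists_sep {u w : ι → F} (hu : u ≠ 0) (hw : ∀ c : F, w ≠ c • u) :
    ∃ t, polar ⇑Q u t = 0 ∧ polar ⇑Q w t = 1 := by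
  obtain ⟨u', hu'⟩ := exists_dual_one hQ hu
  obtain ⟨t, ht⟩ := exists_dual_one hQ (sub_ne_zero.mpr (hw (polar ⇑Q w u')))
  simp only [polar_sub_left, polar_smul_left, smul_eq_mul] at ht
  refine ⟨t - polar ⇑Q u t • u', ?_, ?_⟩
  · rw [polar_sub_right, polar_smul_right, hu', smul_eq_mul, mul_one, sub_self]
  · rw [polar_sub_right, polar_smul_right, smul_eq_mul]
    linear_combination ht

theorem exists_pair (h2 : (2 : F) ≠ 0) (hn : 5 ≤ Fintype.card ι) (u w : ι → F) :
    ∃ y z, polar ⇑Q u y = 0 ∧ polar ⇑Q w y = 0 ∧ polar ⇑Q u z = 0 ∧ polar ⇑Q w z = 0 ∧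
      polar ⇑Q y z = 1 := by
  set φ := conds Q ![u, w] with hφ
  have h1 := φ.finrank_range_add_finrank_ker
  rw [Module.finrank_fintype_fun_eq_card] at h1
  have h3 : Module.finrank F φ.range ≤ 2 := by simpa using Submodule.finrank_le φ.range
  by_contra hcon
  push Not at hcon
  have hle : φ.ker ≤ Forms.perp (QuadraticMap.polarBilin Q) φ.ker := fun z hz y hy => by
    show polar ⇑Q y z = 0
    by_contra hne
    have hy' := conds_eq (LinearMap.mem_ker.mp hy)
    have hz' := conds_eq (LinearMap.mem_ker.mp hz)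
    refine hcon y ((polar ⇑Q y z)⁻¹ • z) (hy' 0) (hy' 1) ?_ ?_ ?_
    · rw [polar_smul_right]; show _ • polar ⇑Q (![u, w] 0) z = 0; rw [hz' 0, smul_zero]
    · rw [polar_smul_right]; show _ • polar ⇑Q (![u, w] 1) z = 0; rw [hz' 1, smul_zero]
    · rw [polar_smul_right, smul_eq_mul, inv_mul_cancel₀ hne]
  have h4 := (Forms.IsGoodForm.of_quadratic hQ).finrank_add_finrank_perp φ.ker
  rw [Module.finrank_fintype_fun_eq_card] at h4
  have h5 := Submodule.finrank_mono hle
  omega

/-- A singular vector orthogonal to the singular `u` and not to `w`. -/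
theorem exists_partner_perp [Finite F] (h2 : (2 : F) ≠ 0) (hn : 5 ≤ Fintype.card ι) {u w : ι → F}
    (hu0 : u ≠ 0) (hu : Q u = 0) (hw : ∀ c : F, w ≠ c • u) :
    ∃ x, Q x = 0 ∧ polar ⇑Q u x = 0 ∧ polar ⇑Q w x = 1 := by
  obtain ⟨u', hu'Q, hu'⟩ := Orth.exists_partner hQ hu0 hu
  obtain ⟨x₀, hx00, hx0, hxc⟩ := exists_singular_conds (Q := Q) h2 ![u, u'] hn
  have hux0 : polar ⇑Q u x₀ = 0 := hxc 0
  have hu'x0 : polar ⇑Q x₀ u' = 0 := by rw [polar_comm]; exact hxc 1
  obtain ⟨f, hfQ, hf⟩ := Orth.exists_partner hQ hx00 hx0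
  set x₂ := f - polar ⇑Q u f • u' with hx₂
  have h20 : polar ⇑Q u x₂ = 0 := by
    rw [hx₂, polar_sub_right, polar_smul_right, hu', smul_eq_mul, mul_one, sub_self]
  have h21 : polar ⇑Q x₀ x₂ = 1 := by
    rw [hx₂, polar_sub_right, polar_smul_right, hu'x0, hf, smul_zero, sub_zero]
  set x₁ := x₂ + (-Q x₂) • x₀ with hx₁
  have h11 : polar ⇑Q x₀ x₁ = 1 := by
    rw [hx₁, polar_add_right, polar_smul_right, Orth.polar_self_zero hx0, h21, smul_zero, add_zero]
  have h10 : polar ⇑Q u x₁ = 0 := by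
    rw [hx₁, polar_add_right, polar_smul_right, h20, hux0, smul_zero, add_zero]
  have h1Q : Q x₁ = 0 := by
    rw [hx₁, QuadraticMap.map_add (⇑Q), QuadraticMap.map_smul, polar_smul_right, hx0,
      polar_comm _ x₂ x₀, h21]
    simp
  by_contra hcon
  push Not at hcon
  have hperp : ∀ x, Q x = 0 → polar ⇑Q u x = 0 → polar ⇑Q w x = 0 := fun x hx hux => by
    by_contra hne
    refine hcon ((polar ⇑Q w x)⁻¹ • x) (by rw [QuadraticMap.map_smul, hx, smul_zero])
      (by rw [polar_smul_right, hux, smul_zero]) ?_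
    rw [polar_smul_right, smul_eq_mul, inv_mul_cancel₀ hne]
  obtain ⟨t, ht, htw⟩ := exists_sep hQ hu0 hw
  set y := t - polar ⇑Q x₁ t • x₀ - polar ⇑Q x₀ t • x₁ with hy
  have hyu : polar ⇑Q u y = 0 := by
    simp [hy, polar_sub_right, polar_smul_right, ht, hux0, h10]
  have hy0 : polar ⇑Q x₀ y = 0 := by
    simp [hy, polar_sub_right, polar_smul_right, Orth.polar_self_zero hx0, h11]
  have hy1 : polar ⇑Q x₁ y = 0 := by
    simp [hy, polar_sub_right, polar_smul_right, Orth.polar_self_zero h1Q, polar_comm (⇑Q) x₁ x₀, h11]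
  have hfam := hperp (x₁ + y + (-Q y) • x₀) ?_ (by
    simp [polar_add_right, polar_smul_right, h10, hyu, hux0])
  swap
  · rw [QuadraticMap.map_add (⇑Q), QuadraticMap.map_add (⇑Q), QuadraticMap.map_smul,
      polar_smul_right, hy1, h1Q, hx0, polar_add_left, polar_comm _ x₁ x₀, h11, polar_comm _ y x₀, hy0]
    simp
  rw [polar_add_right, polar_add_right, polar_smul_right, hperp x₀ hx0 hux0, hperp x₁ h1Q h10,
    smul_zero, zero_add, add_zero] at hfam
  have e : t = y + polar ⇑Q x₁ t • x₀ + polar ⇑Q x₀ t • x₁ := by rw [hy]; abel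
  rw [e, polar_add_right, polar_add_right, polar_smul_right, polar_smul_right, hfam,
    hperp x₀ hx0 hux0, hperp x₁ h1Q h10, smul_zero, smul_zero, add_zero, add_zero] at htw
  exact zero_ne_one htw

/-- In a subspace with an orthogonal projection, two vectors with product one. -/
theorem exists_pair_of_split {W : Submodule F (ι → F)} (hW : W ≠ ⊥)
    (hsplit : ∀ t, ∃ r ∈ W, ∀ y ∈ W, polar ⇑Q y t = polar ⇑Q y r) :
    ∃ y ∈ W, ∃ z ∈ W, polar ⇑Q y z = 1 := by
  obtain ⟨y, hy, hy0⟩ := Submodule.exists_mem_ne_zero_of_ne_bot hW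
  obtain ⟨t, ht⟩ := exists_dual_one hQ hy0
  obtain ⟨r, hr, hrt⟩ := hsplit t
  exact ⟨y, hy, r, hr, (hrt y hy).symm.trans ht⟩

omit hQ in
theorem ker_conds_ne_bot {k : ℕ} (c : Fin k → ι → F) (hk : k < Fintype.card ι) :
    (conds Q c).ker ≠ ⊥ := fun h => by
  have h1 := (conds Q c).finrank_range_add_finrank_ker
  rw [Module.finrank_fintype_fun_eq_card, h, finrank_bot] at h1
  have h3 : Module.finrank F (conds Q c).range ≤ k := by simpa using Submodule.finrank_le (conds Q c).range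
  omega

omit hQ in
theorem mem_ker_conds {k : ℕ} {c : Fin k → ι → F} {x : ι → F} :
    x ∈ (conds Q c).ker ↔ ∀ i, polar ⇑Q (c i) x = 0 :=
  ⟨fun h => conds_eq (LinearMap.mem_ker.mp h), fun h => LinearMap.mem_ker.mpr (funext h)⟩

/-- Two vectors with product one, orthogonal to a hyperbolic pair. -/
theorem exists_pair_hyperbolic (hn : 3 ≤ Fintype.card ι) {u z : ι → F} (hu : Q u = 0) (hz : Q z = 0)
    (huz : polar ⇑Q u z = 1) :
    ∃ y y', polar ⇑Q u y = 0 ∧ polar ⇑Q z y = 0 ∧ polar ⇑Q u y' = 0 ∧ polar ⇑Q z y' = 0 ∧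
      polar ⇑Q y y' = 1 := by
  obtain ⟨y, hy, y', hy', hyy⟩ := exists_pair_of_split hQ
    (ker_conds_ne_bot (Q := Q) ![u, z] (by omega)) fun t =>
    ⟨t - polar ⇑Q z t • u - polar ⇑Q u t • z, mem_ker_conds.mpr (Fin.forall_fin_two.mpr
      ⟨by simp [polar_sub_right, polar_smul_right, Orth.polar_self_zero hu, huz],
        by simp [polar_sub_right, polar_smul_right, Orth.polar_self_zero hz, polar_comm (⇑Q) z u, huz]⟩),
      fun y hy => by
        have h := mem_ker_conds.mp hy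
        have h0 : polar ⇑Q y u = 0 := by rw [polar_comm]; exact h 0
        have h1 : polar ⇑Q y z = 0 := by rw [polar_comm]; exact h 1
        simp [polar_sub_right, polar_smul_right, h0, h1]⟩
  exact ⟨y, y', mem_ker_conds.mp hy 0, mem_ker_conds.mp hy 1, mem_ker_conds.mp hy' 0,
    mem_ker_conds.mp hy' 1, hyy⟩

/-- A singular partner of `u` which is not orthogonal to `w`. -/
theorem exists_common_partner [Finite F] (h2 : (2 : F) ≠ 0) (hn : 3 ≤ Fintype.card ι) {u w : ι → F}
    (hu0 : u ≠ 0) (hu : Q u = 0) (hw : w ≠ 0) :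
    ∃ v, Q v = 0 ∧ polar ⇑Q u v = 1 ∧ polar ⇑Q w v ≠ 0 := by
  obtain ⟨z, hzQ, hz⟩ := Orth.exists_partner hQ hu0 hu
  by_contra hcon
  push Not at hcon
  have hwz := hcon z hzQ hz
  have hfam : ∀ y, polar ⇑Q u y = 0 → polar ⇑Q z y = 0 →
      polar ⇑Q w y = Q y * polar ⇑Q w u := by
    intro y hy hy'
    have h := hcon (z + y + (-Q y) • u) ?_ ?_
    · rw [polar_add_right, polar_add_right, polar_smul_right, hwz, smul_eq_mul] at h
      linear_combination h
    · rw [QuadraticMap.map_add (⇑Q), QuadraticMap.map_add (⇑Q), QuadraticMap.map_smul,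
        polar_smul_right, polar_add_left, hzQ, hu, hy', polar_comm _ z u, hz, polar_comm _ y u, hy]
      simp
    · simp [polar_add_right, polar_smul_right, Orth.polar_self_zero hu, hz, hy]
  obtain ⟨y, y', hy1, hy2, hy1', hy2', hyy⟩ := exists_pair_hyperbolic hQ hn hu hzQ hz
  have hwu : polar ⇑Q w u = 0 := by
    have h1 := hfam (y + y') (by rw [polar_add_right, hy1, hy1', add_zero])
      (by rw [polar_add_right, hy2, hy2', add_zero])
    rw [polar_add_right, hfam y hy1 hy2, hfam y' hy1' hy2', QuadraticMap.map_add (⇑Q), hyy] at h1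
    linear_combination -h1
  refine hw (eq_zero_of_forall hQ fun t => ?_)
  set r := t - polar ⇑Q z t • u - polar ⇑Q u t • z with hr
  have hr1 : polar ⇑Q u r = 0 := by
    simp [hr, polar_sub_right, polar_smul_right, Orth.polar_self_zero hu, hz]
  have hr2 : polar ⇑Q z r = 0 := by
    simp [hr, polar_sub_right, polar_smul_right, Orth.polar_self_zero hzQ, polar_comm (⇑Q) z u, hz]
  have e : t = r + polar ⇑Q z t • u + polar ⇑Q u t • z := by rw [hr]; abel
  rw [e, polar_add_right, polar_add_right, polar_smul_right, polar_smul_right, hfam r hr1 hr2,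
    hwu, hwz]
  simp

omit hQ in
/-- A quadratic form as a polynomial. -/
theorem exists_poly (h2 : (2 : F) ≠ 0) (P : QuadraticForm F (ι → F)) :
    ∃ f : MvPolynomial ι F, f.totalDegree ≤ 2 ∧ ∀ x, MvPolynomial.eval x f = P x := by
  classical
  refine ⟨∑ i, ∑ j, MvPolynomial.C (polar ⇑P (Pi.single i 1) (Pi.single j 1) / 2) * MvPolynomial.X i *
      MvPolynomial.X j, ?_, fun x => ?_⟩
  · refine MvPolynomial.totalDegree_finsetSum_le fun i _ => MvPolynomial.totalDegree_finsetSum_le fun j _ => ?_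
    refine (MvPolynomial.totalDegree_mul _ _).trans (Nat.add_le_add ((MvPolynomial.totalDegree_mul _ _).trans ?_)
      (MvPolynomial.totalDegree_X (R := F) j).le)
    rw [MvPolynomial.totalDegree_C, zero_add, MvPolynomial.totalDegree_X]
  · simp only [map_sum, map_mul, MvPolynomial.eval_C, MvPolynomial.eval_X]
    refine mul_left_cancel₀ h2 ?_
    rw [← Orth.polar_self_eq, show polar ⇑P x x = QuadraticMap.polarBilin P x x from rfl]
    conv_rhs => rw [← LinearMap.sum_repr_mul_repr_mul (Pi.basisFun F ι) (Pi.basisFun F ι) x x]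
    rw [Finsupp.sum_fintype _ _ (fun _ => by simp), Finset.mul_sum]
    refine Finset.sum_congr rfl fun i _ => ?_
    rw [Finsupp.sum_fintype _ _ (fun _ => by simp), Finset.mul_sum]
    refine Finset.sum_congr rfl fun j _ => ?_
    simp [Pi.basisFun_repr, Pi.basisFun_apply]
    field_simp

omit hQ in
theorem exists_common_zero [Finite F] (h2 : (2 : F) ≠ 0) (hn : 5 ≤ Fintype.card ι)
    (P : QuadraticForm F (ι → F)) : ∃ x, x ≠ 0 ∧ Q x = 0 ∧ P x = 0 := by
  classical
  haveI : Fintype F := Fintype.ofFinite F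
  obtain ⟨f, hf, hfx⟩ := exists_poly h2 Q
  obtain ⟨g, hg, hgx⟩ := exists_poly h2 P
  have hdvd := char_dvd_card_solutions_of_add_lt (ringChar F) (K := F) (σ := ι) (f₁ := f) (f₂ := g) (by omega)
  obtain ⟨x, hx⟩ : ∃ x : {x : ι → F // MvPolynomial.eval x f = 0 ∧ MvPolynomial.eval x g = 0}, x.1 ≠ 0 := by
    by_contra hno
    push Not at hno
    haveI : Subsingleton {x : ι → F // MvPolynomial.eval x f = 0 ∧ MvPolynomial.eval x g = 0} :=
      ⟨fun a b => Subtype.ext ((hno a).trans (hno b).symm)⟩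
    haveI : Nonempty {x : ι → F // MvPolynomial.eval x f = 0 ∧ MvPolynomial.eval x g = 0} :=
      ⟨⟨0, by rw [hfx, hgx, QuadraticMap.map_zero, QuadraticMap.map_zero]; exact ⟨rfl, rfl⟩⟩⟩
    rw [Fintype.card_eq_one_iff_nonempty_unique.mpr ⟨uniqueOfSubsingleton (Classical.arbitrary _)⟩] at hdvd
    exact CharP.ringChar_ne_one (Nat.dvd_one.mp hdvd)
  exact ⟨x.1, hx, by rw [← hfx]; exact x.2.1, by rw [← hgx]; exact x.2.2⟩

omit hQ

/-- The matrix of the Eichler transformation with centre `e`. -/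
def eichlerMat (Q : QuadraticForm F (ι → F)) (e a : ι → F) : Matrix ι ι F :=
  1 + vecMulVec a (polarVec ⇑Q e) - vecMulVec e (polarVec ⇑Q a + Q a • polarVec ⇑Q e)

theorem eichlerMat_mulVec (e a x : ι → F) :
    eichlerMat Q e a *ᵥ x =
      x + polar ⇑Q e x • a - (polar ⇑Q a x + Q a * polar ⇑Q e x) • e := by
  rw [eichlerMat, sub_mulVec, add_mulVec, one_mulVec, vecMulVec_mulVec, vecMulVec_mulVec,
    add_dotProduct, smul_dotProduct, Orth.polarVec_dotProduct, Orth.polarVec_dotProduct]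
  funext i; simp; ring

theorem eichlerMat_mul {e a b : ι → F} (he : Q e = 0) (ha : polar ⇑Q e a = 0)
    (hb : polar ⇑Q e b = 0) :
    eichlerMat Q e a * eichlerMat Q e b = eichlerMat Q e (a + b) := by
  refine Matrix.ext_iff_mulVec.mpr fun x => ?_
  rw [← mulVec_mulVec, eichlerMat_mulVec, eichlerMat_mulVec, eichlerMat_mulVec]
  simp only [polar_add_right, polar_sub_right, polar_smul_right, polar_add_left,
    Orth.polar_self_zero he, ha, hb, polar_comm (⇑Q) a e, QuadraticMap.map_add (⇑Q), smul_eq_mul]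
  module

theorem eichlerMat_zero (e : ι → F) : eichlerMat Q e 0 = 1 := by
  refine Matrix.ext_iff_mulVec.mpr fun x => ?_
  rw [eichlerMat_mulVec]
  simp

/-- The Eichler element with centre `e`. -/
noncomputable def eichlerGL (Q : QuadraticForm F (ι → F)) (e a : ι → F) (he : Q e = 0)
    (ha : polar ⇑Q e a = 0) : GL ι F :=
  ⟨eichlerMat Q e a, eichlerMat Q e (-a),
    by rw [eichlerMat_mul he ha (by rw [polar_neg_right, ha, neg_zero]), add_neg_cancel,
      eichlerMat_zero],
    by rw [eichlerMat_mul he (by rw [polar_neg_right, ha, neg_zero]) ha, neg_add_cancel,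
      eichlerMat_zero]⟩

theorem eichlerGL_mulVec {e a : ι → F} (he : Q e = 0) (ha : polar ⇑Q e a = 0) (x : ι → F) :
    (eichlerGL Q e a he ha : Matrix ι ι F) *ᵥ x =
      x + polar ⇑Q e x • a - (polar ⇑Q a x + Q a * polar ⇑Q e x) • e :=
  eichlerMat_mulVec e a x

theorem Q_eichlerGL {e a : ι → F} (he : Q e = 0) (ha : polar ⇑Q e a = 0) (x : ι → F) :
    Q ((eichlerGL Q e a he ha : Matrix ι ι F) *ᵥ x) = Q x := by
  rw [eichlerGL_mulVec, sub_eq_add_neg, QuadraticMap.map_add (⇑Q), QuadraticMap.map_add (⇑Q),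
    QuadraticMap.map_neg, QuadraticMap.map_smul, QuadraticMap.map_smul, polar_neg_right,
    polar_smul_right, polar_smul_right, polar_add_left, polar_smul_left, he,
    polar_comm _ a e, ha, polar_comm _ x e, polar_comm _ x a]
  simp only [smul_eq_mul]; ring

theorem eichlerGL_mem [Finite F] {e a : ι → F} (he : Q e = 0) (ha : polar ⇑Q e a = 0) :
    eichlerGL Q e a he ha ∈ Cfsg.Geo.quadSimilarityGroup ⇑Q ⊓ Cfsg.Geo.specialLinear ι F := by
  refine ⟨⟨1, fun x => by rw [Q_eichlerGL, Units.val_one, one_mul]⟩, ?_⟩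
  obtain ⟨p, hp⟩ := CharP.exists F
  have := hp
  have hpp : p.Prime := (CharP.char_is_prime_or_zero F p).resolve_right fun h0 => by
    subst h0
    have := CharP.charP_to_charZero F
    exact not_finite F
  have hnat : ∀ n : ℕ, (eichlerMat Q e a) ^ n = eichlerMat Q e ((n : F) • a) := by
    intro n
    induction n with
    | zero => rw [pow_zero, Nat.cast_zero, zero_smul, eichlerMat_zero]
    | succ n ih =>
      rw [pow_succ, ih, eichlerMat_mul he (by rw [polar_smul_right, ha, smul_zero]) ha,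
        Nat.cast_succ, add_smul, one_smul]
  have h1 := congrArg Matrix.det (hnat p)
  rw [CharP.cast_eq_zero, zero_smul, eichlerMat_zero, det_one, det_pow] at h1
  show Matrix.GeneralLinearGroup.det _ = 1
  refine Units.ext ?_
  show (eichlerMat Q e a).det = 1
  have : Fact p.Prime := ⟨hpp⟩
  exact sub_eq_zero.mp (eq_zero_of_pow_eq_zero (n := p) (by rw [sub_pow_char, h1, one_pow, sub_self]))

include hQ

/-- An Eichler element moving one singular vector to another with the same value against `v`. -/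
theorem exists_move [Finite F] {x x' v : ι → F} (hx : Q x = 0) (hx' : Q x' = 0) (hv : Q v = 0)
    {t : F} (ht : t ≠ 0) (hvx : polar ⇑Q v x = t) (hvx' : polar ⇑Q v x' = t) :
    ∃ g ∈ Cfsg.Geo.quadSimilarityGroup ⇑Q ⊓ Cfsg.Geo.specialLinear ι F,
      (∀ y, Q ((g : Matrix ι ι F) *ᵥ y) = Q y) ∧ (g : Matrix ι ι F) *ᵥ x = x' := by
  have ha : polar ⇑Q v (t⁻¹ • (x' - x)) = 0 := by
    rw [polar_smul_right, polar_sub_right, hvx, hvx', sub_self, smul_zero]
  refine ⟨eichlerGL Q v _ hv ha, eichlerGL_mem hv ha, fun y => Q_eichlerGL hv ha y, ?_⟩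
  rw [eichlerGL_mulVec, hvx, smul_smul, mul_inv_cancel₀ ht, one_smul, polar_smul_left,
    polar_sub_left, Orth.polar_self_zero hx, sub_zero, QuadraticMap.map_smul, sub_eq_add_neg x' x,
    QuadraticMap.map_add (⇑Q), QuadraticMap.map_neg, polar_neg_right, hx, hx']
  simp only [smul_eq_mul]
  have : t⁻¹ * polar ⇑Q x' x + t⁻¹ * t⁻¹ * (0 + 0 + -polar ⇑Q x' x) * t = 0 := by
    field_simp; ring
  rw [this, zero_smul, sub_zero]
  abel

end Cfsg.Agent.Lib.FormMax.OrthSL
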