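import Mathlib
import Cfsg.Agent.Lib.FormMax.OrthBasic

/-!
# Similitudes of a non-degenerate quadratic form, odd characteristic, are maximal in `SL`
-/

set_option autoImplicit false
set_option linter.unusedSectionVars false

namespace Cfsg.Agent.Lib.FormMax.OrthSL

open Matrix QuadraticMap
open Cfsg.Agent.Lib

variable {ι : Type} [Fintype ι] [DecidableEq ι] {F : Type*} [Field F]
  {Q : QuadraticForm F (ι → F)}

/-- The dual vector of `x ↦ B w x`. -/
noncomputable def dual (Q : QuadraticForm F (ι → F)) : (ι → F) →ₗ[F] (ι → F) where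
  toFun w := polarVec ⇑Q w
  map_add' a b := funext fun i => polar_add_left Q a b _
  map_smul' c a := funext fun i => polar_smul_left Q c a _

theorem dual_dot (w x : ι → F) : dual Q w ⬝ᵥ x = polar ⇑Q w x := Orth.polarVec_dotProduct w x

theorem dual_bijective (hQ : (QuadraticMap.polarBilin Q).Nondegenerate) :
    Function.Bijective (dual Q) := by
  have hinj : Function.Injective (dual Q) := by
    rw [injective_iff_map_eq_zero]
    intro w hw
    refine eq_zero_of_forall hQ fun t => ?_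
    rw [← dual_dot, hw, zero_dotProduct]
  exact ⟨hinj, LinearMap.injective_iff_surjective.mp hinj⟩

theorem polar_of_isometry {g : GL ι F} (hg : ∀ y, Q ((g : Matrix ι ι F) *ᵥ y) = Q y) (x y : ι → F) :
    polar ⇑Q ((g : Matrix ι ι F) *ᵥ x) ((g : Matrix ι ι F) *ᵥ y) = polar ⇑Q x y := by
  rw [QuadraticMap.polar, QuadraticMap.polar, ← mulVec_add, hg, hg, hg]

theorem mulVec_inv (g : GL ι F) (x : ι → F) :
    (g : Matrix ι ι F) *ᵥ (((g⁻¹ : GL ι F) : Matrix ι ι F) *ᵥ x) = x := by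
  rw [mulVec_mulVec, ← Units.val_mul, mul_inv_cancel, Units.val_one, one_mulVec]

theorem inv_mulVec (g : GL ι F) (x : ι → F) :
    ((g⁻¹ : GL ι F) : Matrix ι ι F) *ᵥ ((g : Matrix ι ι F) *ᵥ x) = x := by
  rw [mulVec_mulVec, ← Units.val_mul, inv_mul_cancel, Units.val_one, one_mulVec]

theorem gl_mulVec (a b : GL ι F) (x : ι → F) :
    ((a * b : GL ι F) : Matrix ι ι F) *ᵥ x = (a : Matrix ι ι F) *ᵥ ((b : Matrix ι ι F) *ᵥ x) := by
  rw [mulVec_mulVec, Units.val_mul]

theorem tr_congr {v a b : ι → F} (hab : a = b) (ha : a ⬝ᵥ v = 0) (hb : b ⬝ᵥ v = 0) :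
    Tr v a ha = Tr v b hb := by subst hab; rfl

/-- The transvections with centre `v` and axis given by `w` lie in `H`. -/
def Root (Q : QuadraticForm F (ι → F)) (H : Subgroup (GL ι F)) (v w : ι → F) : Prop :=
  polar ⇑Q w v = 0 ∧ ∀ h : dual Q w ⬝ᵥ v = 0, Tr v (dual Q w) h ∈ H

/-- All transvections with centre `v` lie in `H`. -/
def Full (Q : QuadraticForm F (ι → F)) (H : Subgroup (GL ι F)) (v : ι → F) : Prop :=
  ∀ w, polar ⇑Q w v = 0 → Root Q H v w

variable {H : Subgroup (GL ι F)}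

theorem root_mem {v w : ι → F} (h : Root Q H v w) (hd : dual Q w ⬝ᵥ v = 0) :
    Tr v (dual Q w) hd ∈ H := h.2 hd

theorem root_add {v a b : ι → F} (ha : Root Q H v a) (hb : Root Q H v b) : Root Q H v (a + b) := by
  refine ⟨by rw [polar_add_left, ha.1, hb.1, add_zero], fun h => ?_⟩
  have h1 := H.mul_mem (ha.2 (by rw [dual_dot]; exact ha.1)) (hb.2 (by rw [dual_dot]; exact hb.1))
  rw [Tr_mul] at h1
  rwa [tr_congr (map_add (dual Q) a b) h]

theorem root_zero (v : ι → F) : Root Q H v 0 := by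
  refine ⟨polar_zero_left _ _, fun h => ?_⟩
  have : Tr v (dual Q 0) h = 1 := gl_ext fun x => by simp [Tr_mulVec]
  rw [this]; exact H.one_mem

theorem root_neg {v a : ι → F} (ha : Root Q H v a) : Root Q H v (-a) := by
  refine ⟨by rw [polar_neg_left, ha.1, neg_zero], fun h => ?_⟩
  have hd : dual Q a ⬝ᵥ v = 0 := by rw [dual_dot]; exact ha.1
  have h1 : Tr v (dual Q (-a)) h = (Tr v (dual Q a) hd)⁻¹ := by
    refine eq_inv_of_mul_eq_one_left (gl_ext fun x => ?_)
    rw [Tr_mul, Tr_mulVec]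
    simp
  rw [h1]; exact H.inv_mem (ha.2 hd)

theorem root_sub {v a b : ι → F} (ha : Root Q H v a) (hb : Root Q H v b) : Root Q H v (a - b) := by
  rw [sub_eq_add_neg]; exact root_add ha (root_neg hb)

theorem root_scale {v w : ι → F} {s : F} (hs : s ≠ 0) (h : Root Q H v w) :
    Root Q H (s • v) (s⁻¹ • w) := by
  refine ⟨by rw [polar_smul_left, polar_smul_right, h.1, smul_zero, smul_zero], fun hd => ?_⟩
  have : Tr (s • v) (dual Q (s⁻¹ • w)) hd = Tr v (dual Q w) (by rw [dual_dot]; exact h.1) := by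
    refine gl_ext fun x => ?_
    rw [Tr_mulVec, Tr_mulVec, map_smul, smul_dotProduct, smul_smul, smul_eq_mul]
    congr 2
    field_simp
  rw [this]; exact h.2 _

theorem root_conj {g : GL ι F} (hgH : g ∈ H) (hg : ∀ y, Q ((g : Matrix ι ι F) *ᵥ y) = Q y)
    {v w : ι → F} (h : Root Q H v w) :
    Root Q H ((g : Matrix ι ι F) *ᵥ v) ((g : Matrix ι ι F) *ᵥ w) := by
  refine ⟨by rw [polar_of_isometry hg]; exact h.1, fun hd => ?_⟩
  have h1 := H.mul_mem (H.mul_mem hgH (h.2 (by rw [dual_dot]; exact h.1))) (H.inv_mem hgH)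
  rw [conj_Tr] at h1
  convert h1 using 1
  refine gl_ext fun x => ?_
  rw [Tr_mulVec, Tr_mulVec, dual_dot, ← dotProduct_mulVec, dual_dot]
  conv_lhs => rw [← mulVec_inv g x, polar_of_isometry hg]
  rw [mulVec_inv]

theorem full_scale {v : ι → F} {s : F} (hs : s ≠ 0) (h : Full Q H v) : Full Q H (s • v) := by
  intro w hw
  have h0 : polar ⇑Q (s • w) v = 0 := by
    rw [polar_smul_left]; rwa [polar_smul_right] at hw
  have := root_scale hs (h _ h0)
  rwa [smul_smul, inv_mul_cancel₀ hs, one_smul] at this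

variable (hQ : (QuadraticMap.polarBilin Q).Nondegenerate) (h2 : (2 : F) ≠ 0)
  (hn : 6 ≤ Fintype.card ι) (hM : Cfsg.Geo.quadSimilarityGroup ⇑Q ⊓ Cfsg.Geo.specialLinear ι F ≤ H)
include hQ h2 hn hM

theorem root_spread [Finite F] {u x w : ι → F} (hx : Q x = 0)
    (hux : polar ⇑Q u x = 0) (hR : Root Q H u w) (hxw : polar ⇑Q x w = 1) {y : ι → F}
    (hy : polar ⇑Q u y = 0) (hy' : polar ⇑Q x y = 0) : Root Q H u y := by
  have hD : ∀ y, polar ⇑Q u y = 0 → polar ⇑Q x y = 0 →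
      Root Q H u (y - (polar ⇑Q y w + Q y) • x) := by
    intro y hy hy'
    have h1 := root_conj (hM (eichlerGL_mem hx hy')) (fun z => Q_eichlerGL hx hy' z) hR
    rw [eichlerGL_mulVec, eichlerGL_mulVec, polar_comm _ x u, hux, polar_comm _ y u, hy, hxw,
      zero_smul, add_zero, mul_zero, add_zero, zero_smul, sub_zero, one_smul, mul_one] at h1
    have h3 := root_sub h1 hR
    rwa [show w + y - (polar ⇑Q y w + Q y) • x - w = y - (polar ⇑Q y w + Q y) • x by abel] at h3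
  obtain ⟨y₀, y₁, a0, b0, a1, b1, hyy⟩ := exists_pair hQ h2 (by omega) u x
  have hxs : ∀ t : F, Root Q H u (t • x) := by
    intro t
    have k1 := hD (t • y₀) (by rw [polar_smul_right, a0, smul_zero])
      (by rw [polar_smul_right, b0, smul_zero])
    have k2 := hD y₁ a1 b1
    have k3 := hD (t • y₀ + y₁) (by rw [polar_add_right, polar_smul_right, a0, a1, smul_zero, add_zero])
      (by rw [polar_add_right, polar_smul_right, b0, b1, smul_zero, add_zero])
    have k4 := root_sub (root_add k1 k2) k3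
    convert k4 using 1
    rw [polar_add_left, polar_smul_left, QuadraticMap.map_add (⇑Q) (t • y₀) y₁, polar_smul_left, hyy]
    simp only [smul_eq_mul]
    module
  have := root_add (hD y hy hy') (hxs (polar ⇑Q y w + Q y))
  rwa [sub_add_cancel] at this

theorem full_of_generic [Finite F] {u w : ι → F} (hu0 : u ≠ 0) (hu : Q u = 0) (hR : Root Q H u w)
    (hw : ∀ c : F, w ≠ c • u) : Full Q H u := by
  obtain ⟨x, hxQ, hux, hwx⟩ := exists_partner_perp hQ h2 (by omega) hu0 hu hw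
  obtain ⟨u', -, hu'⟩ := Orth.exists_partner hQ hu0 hu
  have hS1 : ∀ y, polar ⇑Q u y = 0 → polar ⇑Q x y = 0 → Root Q H u y := fun y a b =>
    root_spread hQ h2 hn hM hxQ hux hR (by rw [polar_comm]; exact hwx) a b
  obtain ⟨z, hz0, hzQ, hzc⟩ := exists_singular_conds (Q := Q) h2 ![u, x, u'] (by omega)
  have huz : polar ⇑Q u z = 0 := hzc 0
  have hxz : polar ⇑Q x z = 0 := hzc 1
  have hzu : ∀ c : F, z ≠ c • u := by
    intro c e
    have h1 : polar ⇑Q u' z = 0 := hzc 2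
    rw [e, polar_smul_right, polar_comm, hu', smul_eq_mul, mul_one] at h1
    exact hz0 (by rw [e, h1, zero_smul])
  obtain ⟨x₂, hx₂Q, hux₂, hzx₂⟩ := exists_partner_perp hQ h2 (by omega) hu0 hu hzu
  have hS2 : ∀ y, polar ⇑Q u y = 0 → polar ⇑Q x₂ y = 0 → Root Q H u y := fun y a b =>
    root_spread hQ h2 hn hM hx₂Q hux₂ (hS1 z huz hxz) (by rw [polar_comm]; exact hzx₂) a b
  have hxu : ∀ c : F, x ≠ c • u := by
    intro c e
    rw [e, polar_smul_right, hR.1, smul_zero] at hwx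
    exact zero_ne_one hwx
  obtain ⟨q₀, hq0, hq1⟩ := exists_sep hQ hu0 hxu
  set q := q₀ - polar ⇑Q x₂ q₀ • z with hq
  have q0 : polar ⇑Q u q = 0 := by simp [hq, polar_sub_right, polar_smul_right, hq0, huz]
  have q1 : polar ⇑Q x q = 1 := by simp [hq, polar_sub_right, polar_smul_right, hq1, hxz]
  have q2 : polar ⇑Q x₂ q = 0 := by
    rw [hq, polar_sub_right, polar_smul_right, polar_comm (⇑Q) x₂ z, hzx₂, smul_eq_mul, mul_one,
      sub_self]
  intro t ht
  have ht' : polar ⇑Q u t = 0 := by rw [polar_comm]; exact ht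
  have h1 := root_add (hS1 (t - polar ⇑Q x t • q)
      (by rw [polar_sub_right, polar_smul_right, ht', q0, smul_zero, sub_zero])
      (by rw [polar_sub_right, polar_smul_right, q1, smul_eq_mul, mul_one, sub_self]))
    (hS2 (polar ⇑Q x t • q) (by rw [polar_smul_right, q0, smul_zero])
      (by rw [polar_smul_right, q2, smul_zero]))
  rwa [sub_add_cancel] at h1

omit hn in
theorem full_singular [Finite F] (hn : 3 ≤ Fintype.card ι) {u : ι → F} (hu0 : u ≠ 0) (hu : Q u = 0) (hF : Full Q H u)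
    {x : ι → F} (hx0 : x ≠ 0) (hx : Q x = 0) : Full Q H x := by
  obtain ⟨v, hv, huv, hxv⟩ := exists_common_partner hQ h2 hn hu0 hu hx0
  obtain ⟨g, hgM, hg, hgu⟩ := exists_move hQ hu
    (x' := (polar ⇑Q x v)⁻¹ • x) (by rw [QuadraticMap.map_smul, hx, smul_zero]) hv one_ne_zero
    (by rw [polar_comm]; exact huv)
    (by rw [polar_smul_right, polar_comm _ v x, smul_eq_mul, inv_mul_cancel₀ hxv])
  have h1 : Full Q H ((polar ⇑Q x v)⁻¹ • x) := by
    intro w hw
    rw [← hgu] at hw ⊢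
    have h0 : polar ⇑Q (((g⁻¹ : GL ι F) : Matrix ι ι F) *ᵥ w) u = 0 := by
      rwa [← polar_of_isometry hg, mulVec_inv]
    have h3 := root_conj (hM hgM) hg (hF _ h0)
    rwa [mulVec_inv] at h3
  have := full_scale hxv h1
  rwa [smul_smul, mul_inv_cancel₀ hxv, one_smul] at this

theorem generic_of_degenerate [Finite F] {u : ι → F} (hu0 : u ≠ 0) (hu : Q u = 0) {κ : F}
    (hκ : κ ≠ 0) (hR : Root Q H u (κ • u)) :
    ∃ v w, v ≠ 0 ∧ Q v = 0 ∧ Root Q H v w ∧ ∀ c : F, w ≠ c • v := by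
  obtain ⟨v, hvQ, huv⟩ := Orth.exists_partner hQ hu0 hu
  obtain ⟨z, hz0, hzQ, hzc⟩ := exists_singular_conds (Q := Q) h2 ![u, v] (by omega)
  have huz : polar ⇑Q u z = 0 := hzc 0
  have hvz : polar ⇑Q v z = 0 := hzc 1
  obtain ⟨f, -, hf⟩ := Orth.exists_partner hQ hz0 hzQ
  set z₁ := f - polar ⇑Q u f • v - polar ⇑Q v f • u with hz₁
  have e1 : polar ⇑Q u z₁ = 0 := by
    simp [hz₁, polar_sub_right, polar_smul_right, huv, Orth.polar_self_zero hu]
  have e2 : polar ⇑Q v z₁ = 0 := by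
    simp [hz₁, polar_sub_right, polar_smul_right, polar_comm (⇑Q) v u, huv, Orth.polar_self_zero hvQ]
  have e3 : polar ⇑Q z z₁ = 1 := by
    simp [hz₁, polar_sub_right, polar_smul_right, polar_comm (⇑Q) z u, polar_comm (⇑Q) z v, huz, hvz,
      hf]
  -- squares
  have hsq : ∀ t : F, t ≠ 0 → Root Q H u ((t * t * κ) • u) := by
    intro t ht
    set x := u + z with hxdef
    have hxQ : Q x = 0 := by rw [hxdef, QuadraticMap.map_add (⇑Q), hu, hzQ, huz]; simp
    obtain ⟨s, su, sv, sz⟩ : ∃ s, polar ⇑Q u s = 0 ∧ polar ⇑Q v s = 0 ∧ polar ⇑Q z s = t - 1 :=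
      ⟨(t - 1) • z₁, by rw [polar_smul_right, e1, smul_zero], by rw [polar_smul_right, e2, smul_zero],
        by rw [polar_smul_right, e3, smul_eq_mul, mul_one]⟩
    set v₂ := t⁻¹ • (v + s + (-Q s) • u) with hv₂
    have hv₂Q : Q v₂ = 0 := by
      rw [hv₂, QuadraticMap.map_smul]
      have : Q (v + s + (-Q s) • u) = 0 := by
        rw [QuadraticMap.map_add (⇑Q), QuadraticMap.map_add (⇑Q), QuadraticMap.map_smul,
          polar_smul_right, polar_add_left, hvQ, hu, sv, polar_comm _ v u, huv, polar_comm _ s u, su]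
        simp
      rw [this, smul_zero]
    have a1 : polar ⇑Q v₂ x = 1 := by
      rw [hv₂, hxdef, polar_smul_left, polar_add_right, polar_add_left, polar_add_left, polar_add_left,
        polar_add_left, polar_smul_left, polar_smul_left, polar_comm _ v u, huv, polar_comm _ s u, su,
        hvz, polar_comm _ s z, sz, Orth.polar_self_zero hu, huz]
      simp only [smul_eq_mul]
      field_simp
      ring
    have a2 : polar ⇑Q v₂ (t • u) = 1 := by
      rw [hv₂, polar_smul_left, polar_smul_right, polar_add_left, polar_add_left, polar_smul_left,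
        polar_comm _ v u, huv, polar_comm _ s u, su, Orth.polar_self_zero hu]
      simp only [smul_eq_mul]
      field_simp
      ring
    obtain ⟨g₁, hg₁M, hg₁, hg₁u⟩ := exists_move hQ hu hxQ hvQ one_ne_zero
      (by rw [polar_comm]; exact huv)
      (by rw [hxdef, polar_add_right, hvz, polar_comm _ v u, huv, add_zero])
    obtain ⟨g₂, hg₂M, hg₂, hg₂u⟩ := exists_move hQ hxQ
      (x' := t • u) (by rw [QuadraticMap.map_smul, hu, smul_zero]) hv₂Q one_ne_zero a1 a2
    have h1 := root_conj (hM hg₂M) hg₂ (root_conj (hM hg₁M) hg₁ hR)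
    rw [mulVec_smul, mulVec_smul, hg₁u, hg₂u] at h1
    have h3 := root_scale (inv_ne_zero ht) h1
    rw [smul_smul, inv_mul_cancel₀ ht, one_smul, inv_inv, smul_smul, smul_smul] at h3
    convert h3 using 2
    ring
  have hline : ∀ c : F, Root Q H u (c • u) := by
    intro c
    have hsq' : ∀ t : F, Root Q H u ((t * t * κ) • u) := fun t => by
      by_cases ht : t = 0
      · simpa [ht] using root_zero (Q := Q) (H := H) u
      · exact hsq t ht
    have := root_sub (hsq' ((c / κ + 1) / 2)) (hsq' ((c / κ - 1) / 2))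
    rw [← sub_smul] at this
    convert this using 2
    field_simp
    ring
  have hlines : ∀ x, x ≠ 0 → Q x = 0 → ∀ c : F, Root Q H x (c • x) := by
    intro x hx0 hx c
    obtain ⟨v', hv', huv', hxv'⟩ := exists_common_partner hQ h2 (by omega) hu0 hu hx0
    set r := (polar ⇑Q x v')⁻¹ with hr
    obtain ⟨g, hgM, hg, hgu⟩ := exists_move hQ hu (x' := r • x)
      (by rw [QuadraticMap.map_smul, hx, smul_zero]) hv' one_ne_zero
      (by rw [polar_comm]; exact huv')
      (by rw [polar_smul_right, polar_comm _ v' x, smul_eq_mul, hr, inv_mul_cancel₀ hxv'])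
    have hr0 : r ≠ 0 := inv_ne_zero hxv'
    have h1 := root_conj (hM hgM) hg (hline (c / (r * r)))
    rw [mulVec_smul, hgu] at h1
    have h3 := root_scale (inv_ne_zero hr0) h1
    rw [smul_smul, inv_mul_cancel₀ hr0, one_smul, inv_inv, smul_smul, smul_smul] at h3
    convert h3 using 2
    field_simp
  -- a product of two such transvections
  have hz0v : v ≠ 0 := fun e => by simp [e] at huv
  have huu := Orth.polar_self_zero hu
  have hvv := Orth.polar_self_zero hvQ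
  set w := u + z with hw
  have hwQ : Q w = 0 := by rw [hw, QuadraticMap.map_add (⇑Q), hu, hzQ, huz]; simp
  have hw0 : w ≠ 0 := fun e => by
    have := congrArg (fun r => polar ⇑Q v r) e
    simp [hw, polar_add_right, polar_comm (⇑Q) v u, huv, hvz] at this
  have da : dual Q ((-1 : F) • u) ⬝ᵥ u = 0 := by rw [dual_dot, polar_smul_left, huu, smul_zero]
  have db : dual Q ((1 : F) • v) ⬝ᵥ v = 0 := by rw [dual_dot, polar_smul_left, hvv, smul_zero]
  have dw : dual Q ((1 : F) • w) ⬝ᵥ w = 0 := by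
    rw [dual_dot, polar_smul_left, Orth.polar_self_zero hwQ, smul_zero]
  set k := Tr u (dual Q ((-1 : F) • u)) da * Tr v (dual Q ((1 : F) • v)) db with hk
  have hkH : k ∈ H := H.mul_mem (root_mem (hlines u hu0 hu _) da) (root_mem (hlines v hz0v hvQ _) db)
  have hkx : ∀ x, (k : Matrix ι ι F) *ᵥ x =
      x + polar ⇑Q v x • v + (-(polar ⇑Q u x + polar ⇑Q v x)) • u := by
    intro x
    rw [hk, Units.val_mul, ← mulVec_mulVec, Tr_mulVec, Tr_mulVec, dual_dot, dual_dot,
      polar_smul_left, polar_smul_left, polar_add_right, polar_smul_right, huv]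
    simp only [smul_eq_mul]
    module
  have hkw : (k : Matrix ι ι F) *ᵥ w = z + v := by
    rw [hkx]
    simp [hw, polar_add_right, polar_comm (⇑Q) v u, huv, hvz, huu, huz]
    abel
  have hQc : Q (z + v) = 0 := by
    rw [QuadraticMap.map_add (⇑Q), hzQ, hvQ, polar_comm _ z v, hvz]; simp
  refine ⟨z + v, z - v, fun e => ?_, hQc, ⟨?_, fun hd => ?_⟩, fun c e => ?_⟩
  · have := congrArg (fun r => polar ⇑Q u r) e
    simp [polar_add_right, huz, huv] at this
  · simp [polar_sub_left, polar_add_right, Orth.polar_self_zero hzQ, hvv, polar_comm (⇑Q) z v, hvz]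
  · have h1 := H.mul_mem (H.mul_mem hkH (root_mem (hlines w hw0 hwQ 1) dw)) (H.inv_mem hkH)
    rw [conj_Tr] at h1
    convert h1 using 1
    refine gl_ext fun x => ?_
    rw [Tr_mulVec, Tr_mulVec, hkw, dual_dot, ← dotProduct_mulVec, dual_dot, one_smul]
    conv_lhs => rw [← mulVec_inv k x]
    rw [hkx (((k⁻¹ : GL ι F) : Matrix ι ι F) *ᵥ x)]
    congr 2
    · rw [← hkx, mulVec_inv]
    · simp [hw, polar_add_left, polar_sub_left, polar_add_right, polar_smul_right,
        polar_comm (⇑Q) z v, hvz, hvv, polar_comm (⇑Q) v u, huv, polar_comm (⇑Q) z u, huz]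
      ring
  · have h1 := congrArg (fun r => polar ⇑Q u r) e
    simp only [polar_sub_right, polar_smul_right, polar_add_right, huz, huv, smul_eq_mul, zero_sub,
      zero_add, mul_one] at h1
    rw [← h1, neg_one_smul, neg_add, sub_eq_add_neg] at e
    have h3 : (2 : F) • z = 0 := by
      rw [two_smul]; exact add_eq_zero_iff_eq_neg.mpr (add_right_cancel e)
    exact hz0 ((smul_eq_zero.mp h3).resolve_left h2)

omit hn in
/-- The commutator of two Eichler elements with a common centre. -/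
theorem root_commutator [Finite F] {g : GL ι F} (hgH : g ∈ H) {u y z w' : ι → F} (hu : Q u = 0)
    (hp : Q (((g⁻¹ : GL ι F) : Matrix ι ι F) *ᵥ u) = 0)
    (hw' : ∀ x, polar ⇑Q w' x = polar ⇑Q (((g⁻¹ : GL ι F) : Matrix ι ι F) *ᵥ u)
      (((g⁻¹ : GL ι F) : Matrix ι ι F) *ᵥ x))
    (hy : polar ⇑Q u y = 0) (hy' : polar ⇑Q w' y = 0) (hz : polar ⇑Q u z = 0)
    (hz' : polar ⇑Q w' z = 0) :
    Root Q H u (polar ⇑Q (((g⁻¹ : GL ι F) : Matrix ι ι F) *ᵥ z)
      (((g⁻¹ : GL ι F) : Matrix ι ι F) *ᵥ y) • u - polar ⇑Q y z • w') := by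
  set gi := ((g⁻¹ : GL ι F) : Matrix ι ι F) with hgi
  set p := gi *ᵥ u with hpdef
  have huu := Orth.polar_self_zero hu
  have hw'u : polar ⇑Q w' u = 0 := by rw [hw']; exact Orth.polar_self_zero hp
  set r := polar ⇑Q (gi *ᵥ z) (gi *ᵥ y) • u - polar ⇑Q y z • w' with hr
  have hru : polar ⇑Q r u = 0 := by
    simp [hr, polar_sub_left, polar_smul_left, huu, hw'u]
  refine ⟨hru, fun hd => ?_⟩
  have hgz : polar ⇑Q p (gi *ᵥ z) = 0 := by rw [← hw']; exact hz'
  obtain ⟨E, hE⟩ : ∃ E, E = eichlerGL Q u y hu hy := ⟨_, rfl⟩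
  obtain ⟨E', hE'⟩ : ∃ E', E' = g * eichlerGL Q p (gi *ᵥ z) hp hgz * g⁻¹ := ⟨_, rfl⟩
  have hEH : E ∈ H := hE ▸ hM (eichlerGL_mem hu hy)
  have hE'H : E' ∈ H :=
    hE' ▸ H.mul_mem (H.mul_mem hgH (hM (eichlerGL_mem hp hgz))) (H.inv_mem hgH)
  have hE'x : ∀ x, (E' : Matrix ι ι F) *ᵥ x = x + polar ⇑Q w' x • z -
      (polar ⇑Q (gi *ᵥ z) (gi *ᵥ x) + Q (gi *ᵥ z) * polar ⇑Q w' x) • u := by
    intro x
    rw [hE', gl_mulVec, gl_mulVec, ← hgi, eichlerGL_mulVec,
      mulVec_sub, mulVec_add, mulVec_smul, mulVec_smul, hgi, mulVec_inv, mulVec_inv, hpdef, hgi,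
      mulVec_inv, ← hgi, ← hw']
  have key : E * E' = Tr u (dual Q r) hd * (E' * E) := by
    refine gl_ext fun x => ?_
    have hEx : ∀ x, (E : Matrix ι ι F) *ᵥ x =
        x + polar ⇑Q u x • y - (polar ⇑Q y x + Q y * polar ⇑Q u x) • u := fun x => by
      rw [hE]; exact eichlerGL_mulVec hu hy x
    have hgzu : polar ⇑Q (gi *ᵥ z) p = 0 := by rw [polar_comm]; exact hgz
    rw [gl_mulVec, gl_mulVec, gl_mulVec, hEx, hE'x, Tr_mulVec, hE'x, hEx, dual_dot, hr]
    simp only [mulVec_add, mulVec_sub, mulVec_smul, ← hpdef, polar_add_right, polar_sub_right,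
      polar_smul_right, polar_sub_left, polar_smul_left, polar_comm (⇑Q) y u, hy, hy', hz, hz',
      huu, hw'u, hgzu, smul_eq_mul]
    module
  have h1 := H.mul_mem (H.mul_mem hEH hE'H) (H.inv_mem (H.mul_mem hE'H hEH))
  rw [key, mul_inv_cancel_right] at h1
  exact h1

theorem generic_of_not_similarity [Finite F] {g : GL ι F} (hgH : g ∈ H)
    (hg : g ∉ Cfsg.Geo.quadSimilarityGroup ⇑Q) :
    ∃ v w, v ≠ 0 ∧ Q v = 0 ∧ Root Q H v w ∧ ∀ c : F, w ≠ c • v := by
  set gi := ((g⁻¹ : GL ι F) : Matrix ι ι F) with hgi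
  have hgi0 : ∀ {x : ι → F}, x ≠ 0 → gi *ᵥ x ≠ 0 := fun {x} hx e => hx (by
    rw [← mulVec_inv g x, ← hgi, e, mulVec_zero])
  have hwex : ∀ u, ∃ w', ∀ x, polar ⇑Q w' x = polar ⇑Q (gi *ᵥ u) (gi *ᵥ x) := by
    intro u
    obtain ⟨w', hw'⟩ := (dual_bijective hQ).2 (dual Q (gi *ᵥ u) ᵥ* gi)
    exact ⟨w', fun x => by rw [← dual_dot, hw', ← dotProduct_mulVec, dual_dot]⟩
  -- the two good cases
  have case1 : ∀ u w', u ≠ 0 → Q u = 0 → Q (gi *ᵥ u) = 0 →
      (∀ x, polar ⇑Q w' x = polar ⇑Q (gi *ᵥ u) (gi *ᵥ x)) → (∀ c : F, w' ≠ c • u) →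
      ∃ v w, v ≠ 0 ∧ Q v = 0 ∧ Root Q H v w ∧ ∀ c : F, w ≠ c • v := by
    intro u w' hu0 hu hp hw' hne
    obtain ⟨y, z, a1, a2, a3, a4, hyz⟩ := exists_pair hQ h2 (by omega) u w'
    refine ⟨u, _, hu0, hu, root_commutator hQ h2 hM hgH hu hp hw' a1 a2 a3 a4, fun c e => ?_⟩
    rw [hyz, one_smul] at e
    exact hne (polar ⇑Q (gi *ᵥ z) (gi *ᵥ y) - c) (by
      rw [sub_smul, ← e]; abel)
  have case2 : ∀ u (lam : F) y z, u ≠ 0 → Q u = 0 → Q (gi *ᵥ u) = 0 →
      (∀ x, lam * polar ⇑Q u x = polar ⇑Q (gi *ᵥ u) (gi *ᵥ x)) → polar ⇑Q u y = 0 →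
      polar ⇑Q u z = 0 → polar ⇑Q (gi *ᵥ y) (gi *ᵥ z) - lam * polar ⇑Q y z ≠ 0 →
      ∃ v w, v ≠ 0 ∧ Q v = 0 ∧ Root Q H v w ∧ ∀ c : F, w ≠ c • v := by
    intro u lam y z hu0 hu hp hlam hy hz hne
    have h1 := root_commutator hQ h2 hM hgH hu hp (w' := lam • u)
      (fun x => by rw [polar_smul_left, smul_eq_mul, hlam]) hy
      (by rw [polar_smul_left, hy, smul_zero]) hz (by rw [polar_smul_left, hz, smul_zero])
    rw [smul_smul, ← sub_smul] at h1
    refine generic_of_degenerate hQ h2 hn hM hu0 hu ?_ h1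
    intro e
    refine hne ?_
    rw [polar_comm (⇑Q) (gi *ᵥ y)]
    linear_combination e
  obtain ⟨u, hu0, hu, hPu⟩ := exists_common_zero (Q := Q) h2 (by omega) (Q.comp (Matrix.toLin' gi))
  have hp : Q (gi *ᵥ u) = 0 := hPu
  obtain ⟨w', hw'⟩ := hwex u
  by_cases hne : ∀ c : F, w' ≠ c • u
  · exact case1 u w' hu0 hu hp hw' hne
  push Not at hne
  obtain ⟨lam, rfl⟩ := hne
  have hlam : ∀ x, lam * polar ⇑Q u x = polar ⇑Q (gi *ᵥ u) (gi *ᵥ x) := fun x => by
    rw [← hw', polar_smul_left, smul_eq_mul]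
  let D : (ι → F) → (ι → F) → F := fun x y =>
    polar ⇑Q (gi *ᵥ x) (gi *ᵥ y) - lam * polar ⇑Q x y
  have hDs : ∀ x y, D x y = D y x := fun x y => by
    simp only [D, polar_comm (⇑Q) x, polar_comm (⇑Q) (gi *ᵥ x)]
  have hDadd : ∀ x y z, D x (y + z) = D x y + D x z := fun x y z => by
    simp only [D, mulVec_add, polar_add_right]; ring
  have hDsmul : ∀ (c : F) x y, D x (c • y) = c * D x y := fun c x y => by
    simp only [D, mulVec_smul, polar_smul_right, smul_eq_mul]; ring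
  by_cases h0 : ∀ y z, polar ⇑Q u y = 0 → polar ⇑Q u z = 0 → D y z = 0
  swap
  · push Not at h0
    obtain ⟨y, z, hy, hz, hne⟩ := h0
    exact case2 u lam y z hu0 hu hp hlam hy hz hne
  obtain ⟨u', -, hu'⟩ := Orth.exists_partner hQ hu0 hu
  obtain ⟨w, hw0, hwQ, hwc⟩ := exists_singular_conds (Q := Q) h2 ![u, u'] (by omega)
  have huw : polar ⇑Q u w = 0 := hwc 0
  have hu'w : polar ⇑Q u' w = 0 := hwc 1
  have huFw : ∀ c : F, u ≠ c • w := by
    intro c e
    rw [e, polar_smul_left, polar_comm _ w u', hu'w, smul_zero] at hu'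
    exact zero_ne_one hu'
  obtain ⟨q, hwq, huq⟩ := exists_sep hQ hw0 huFw
  -- values against `q` determine everything
  have hDw : ∀ w1, polar ⇑Q u w1 = 0 → ∀ x, D w1 x = polar ⇑Q u x * D q w1 := by
    intro w1 hw1 x
    have e : x = (x - polar ⇑Q u x • q) + polar ⇑Q u x • q := (sub_add_cancel _ _).symm
    conv_lhs => rw [e]
    rw [hDadd, hDsmul, h0 w1 _ hw1 (by rw [polar_sub_right, polar_smul_right, huq, smul_eq_mul,
      mul_one, sub_self]), hDs w1 q, zero_add]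
  have hzero : ∀ w1, Q w1 = 0 → polar ⇑Q u w1 = 0 → Q (gi *ᵥ w1) = 0 := by
    intro w1 hQ1 hw1
    have h := h0 w1 w1 hw1 hw1
    simp only [D, Orth.polar_self_eq, hQ1, mul_zero, sub_zero] at h
    exact (mul_eq_zero.mp h).resolve_left h2
  by_cases hl : ∀ w1, Q w1 = 0 → polar ⇑Q u w1 = 0 → (∀ c : F, w1 ≠ c • u) → D q w1 = 0
  swap
  · push Not at hl
    obtain ⟨w1, hQ1, hw1, hind, hl1⟩ := hl
    have hw10 : w1 ≠ 0 := fun e => hind 0 (by rw [e, zero_smul])
    refine case1 w1 (lam • w1 + D q w1 • u) hw10 hQ1 (hzero w1 hQ1 hw1) (fun x => ?_) fun c e => ?_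
    · rw [polar_add_left, polar_smul_left, polar_smul_left, smul_eq_mul, smul_eq_mul]
      have := hDw w1 hw1 x
      simp only [D] at this ⊢
      linear_combination -this
    · have e' : D q w1 • u = (c - lam) • w1 := (eq_sub_of_add_eq' e).trans (sub_smul c lam w1).symm
      by_cases hc : c - lam = 0
      · rw [hc, zero_smul] at e'
        exact hl1 ((smul_eq_zero.mp e').resolve_right hu0)
      · refine hind ((c - lam)⁻¹ * D q w1) ?_
        rw [mul_smul, e', smul_smul, inv_mul_cancel₀ hc, one_smul]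
  have hwu : ∀ c : F, w ≠ c • u := by
    intro c e
    rw [e, polar_smul_right, polar_comm, hu', smul_eq_mul, mul_one] at hu'w
    exact hw0 (by rw [e, hu'w, zero_smul])
  have hlamw : ∀ x, lam * polar ⇑Q w x = polar ⇑Q (gi *ᵥ w) (gi *ᵥ x) := fun x => by
    have := hDw w huw x
    rw [hl w hwQ huw hwu, mul_zero] at this
    simp only [D] at this
    linear_combination -this
  by_cases hqq : D q q = 0
  swap
  · exact case2 w lam q q hw0 hwQ (hzero w hwQ huw) hlamw hwq hwq hqq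
  by_cases hy0 : ∀ y, polar ⇑Q u y = 0 → polar ⇑Q w y = 0 → D q y = 0
  swap
  · push Not at hy0
    obtain ⟨y, hy1, hy2, hne⟩ := hy0
    exact case2 w lam q y hw0 hwQ (hzero w hwQ huw) hlamw hwq hy2 hne
  -- now everything vanishes, so `g` is a similitude
  exfalso
  obtain ⟨w3, hw3Q, hw3u, hw3w⟩ := exists_partner_perp hQ h2 (by omega) hu0 hu hwu
  have hw3F : ∀ c : F, w3 ≠ c • u := by
    intro c e
    rw [e, polar_smul_right, polar_comm, huw, smul_zero] at hw3w
    exact zero_ne_one hw3w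
  have hperp : ∀ y, polar ⇑Q u y = 0 → D q y = 0 := by
    intro y hy
    have e : y = (y - polar ⇑Q w y • w3) + polar ⇑Q w y • w3 := (sub_add_cancel _ _).symm
    rw [e, hDadd, hDsmul, hl w3 hw3Q hw3u hw3F, mul_zero, add_zero]
    exact hy0 _ (by rw [polar_sub_right, polar_smul_right, hy, hw3u, smul_zero, sub_zero])
      (by rw [polar_sub_right, polar_smul_right, hw3w, smul_eq_mul, mul_one, sub_self])
  have hq : ∀ x, D q x = 0 := by
    intro x
    have e : x = (x - polar ⇑Q u x • q) + polar ⇑Q u x • q := (sub_add_cancel _ _).symm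
    rw [e, hDadd, hDsmul, hqq, mul_zero, add_zero]
    exact hperp _ (by rw [polar_sub_right, polar_smul_right, huq, smul_eq_mul, mul_one, sub_self])
  have hD : ∀ x, D x x = 0 := by
    intro x
    have e : x = (x - polar ⇑Q u x • q) + polar ⇑Q u x • q := (sub_add_cancel _ _).symm
    conv_lhs => arg 2; rw [e]
    rw [hDadd, hDsmul, hDs x q, hq, mul_zero, add_zero, hDs]
    have hd : polar ⇑Q u (x - polar ⇑Q u x • q) = 0 := by
      rw [polar_sub_right, polar_smul_right, huq, smul_eq_mul, mul_one, sub_self]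
    rw [hDw _ hd, hq, mul_zero]
  have hP : ∀ x, Q x = lam * Q ((g : Matrix ι ι F) *ᵥ x) := by
    intro x
    have := hD ((g : Matrix ι ι F) *ᵥ x)
    simp only [D, hgi, inv_mulVec, Orth.polar_self_eq] at this
    exact mul_left_cancel₀ h2 (by linear_combination this)
  have hlam0 : lam ≠ 0 := by
    intro e
    obtain ⟨f, hfQ, hf⟩ := Orth.exists_partner hQ hu0 hu
    have h := hP (u + f)
    rw [e, zero_mul, QuadraticMap.map_add (⇑Q), hu, hfQ, hf] at h
    simp at h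
  refine hg ⟨(Units.mk0 lam hlam0)⁻¹, fun x => ?_⟩
  rw [hP x, ← mul_assoc, Units.val_inv_eq_inv_val, Units.val_mk0, inv_mul_cancel₀ hlam0, one_mul]

omit hn hM in
/-- The similitudes in `SL` are maximal once every larger group has all the transvections with some
singular centre. -/
theorem isMaximalIn_of_full [Finite F] (hn : 3 ≤ Fintype.card ι)
    (hgen : ∀ H : Subgroup (GL ι F),
      Cfsg.Geo.quadSimilarityGroup ⇑Q ⊓ Cfsg.Geo.specialLinear ι F ≤ H →
      H ≤ Cfsg.Geo.specialLinear ι F → ∀ g ∈ H, g ∉ Cfsg.Geo.quadSimilarityGroup ⇑Q →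
      ∃ v, v ≠ 0 ∧ Q v = 0 ∧ Full Q H v) :
    Cfsg.Geo.IsMaximalIn (Cfsg.Geo.specialLinear ι F)
      (Cfsg.Geo.quadSimilarityGroup ⇑Q ⊓ Cfsg.Geo.specialLinear ι F) := by
  obtain ⟨e, he0, he⟩ := Orth.exists_singular h2 hQ hn
  obtain ⟨f, hfQ, hf⟩ := Orth.exists_partner hQ he0 he
  refine ⟨lt_of_le_of_ne inf_le_right fun heq => ?_, fun H hMH hHS => ?_⟩
  · have hd : dual Q e ⬝ᵥ e = 0 := by rw [dual_dot]; exact Orth.polar_self_zero he
    obtain ⟨c, hc⟩ := (heq.ge (Tr_mem_SL e _ hd)).1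
    have h1 := hc f
    rw [Tr_mulVec, dual_dot, hf, one_smul, QuadraticMap.map_add (⇑Q), he, hfQ, polar_comm, hf] at h1
    simp at h1
  by_cases hle : H ≤ Cfsg.Geo.quadSimilarityGroup ⇑Q
  · exact Or.inl (le_antisymm (le_inf hle hHS) hMH)
  right
  obtain ⟨g, hgH, hg⟩ := SetLike.not_le_iff_exists.mp hle
  obtain ⟨v₀, hv₀, hv₀Q, hF₀⟩ := hgen H hMH hHS g hgH hg
  have hfull : ∀ x, x ≠ 0 → Q x = 0 → Full Q H x := fun x hx0 hx =>
    full_singular hQ h2 hMH hn hv₀ hv₀Q hF₀ hx0 hx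
  refine eq_SL H hHS fun v a ha => ?_
  rcases eq_or_ne v 0 with rfl | hv
  · have : Tr (0 : ι → F) a ha = 1 := gl_ext fun x => by simp [Tr_mulVec]
    rw [this]; exact H.one_mem
  by_cases hvQ : Q v = 0
  · obtain ⟨w, rfl⟩ := (dual_bijective hQ).2 a
    exact root_mem (hfull v hv hvQ w (by rw [← dual_dot]; exact ha)) ha
  obtain ⟨z, hzQ, hez, hvz⟩ := exists_common_partner hQ h2 hn he0 he hv
  set c := Q v / polar ⇑Q v z with hc
  have hc0 : c ≠ 0 := div_ne_zero hvQ hvz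
  have hz0 : z ≠ 0 := fun h => hvz (by rw [h]; exact polar_zero_right _ _)
  set u₂ := v + (-c) • z with hu₂
  have hu₂Q : Q u₂ = 0 := by
    rw [hu₂, QuadraticMap.map_add (⇑Q), QuadraticMap.map_smul, polar_smul_right, hzQ, hc,
      smul_eq_mul, smul_eq_mul]
    field_simp
    ring
  have hu₁Q : Q (c • z) = 0 := by rw [QuadraticMap.map_smul, hzQ, smul_zero]
  have hsum : c • z + u₂ = v := by rw [hu₂, neg_smul]; abel
  have hu₂0 : u₂ ≠ 0 := fun h => hvQ (by rw [← hsum, h, add_zero, hu₁Q])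
  have hsep : ∀ d : F, c • z ≠ d • u₂ := by
    intro d e'
    refine hvQ ?_
    rw [← hsum, e', show d • u₂ + u₂ = (d + 1) • u₂ by module, QuadraticMap.map_smul, hu₂Q, smul_zero]
  obtain ⟨a₂, ha₂, ha₂'⟩ := exists_sep hQ hu₂0 hsep
  have hd₂ : dual Q a₂ ⬝ᵥ u₂ = 0 := by rw [dual_dot, polar_comm]; exact ha₂
  set k := Tr u₂ (dual Q a₂) hd₂ with hk
  have hkH : k ∈ H := root_mem (hfull u₂ hu₂0 hu₂Q a₂ (by rw [polar_comm]; exact ha₂)) hd₂
  have hku : (k : Matrix ι ι F) *ᵥ (c • z) = v := by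
    rw [hk, Tr_mulVec, dual_dot, polar_comm, ha₂', one_smul, hsum]
  obtain ⟨w₁, hw₁⟩ := (dual_bijective hQ).2 (a ᵥ* (k : Matrix ι ι F))
  have hw₁u : dual Q w₁ ⬝ᵥ (c • z) = 0 := by rw [hw₁, ← dotProduct_mulVec, hku, ha]
  have h1 := H.mul_mem (H.mul_mem hkH (root_mem
    (hfull _ (smul_ne_zero hc0 hz0) hu₁Q w₁ (by rw [← dual_dot]; exact hw₁u)) hw₁u))
    (H.inv_mem hkH)
  rw [conj_Tr] at h1
  convert h1 using 1
  refine gl_ext fun x => ?_
  rw [Tr_mulVec, Tr_mulVec, hku, hw₁, ← dotProduct_mulVec, ← dotProduct_mulVec, mulVec_inv]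


omit hn hM in
/-- The similitudes in `SL` are maximal. -/
theorem isMaximalIn_quadSimilarity [Finite F] (hn : 6 ≤ Fintype.card ι) :
    Cfsg.Geo.IsMaximalIn (Cfsg.Geo.specialLinear ι F)
      (Cfsg.Geo.quadSimilarityGroup ⇑Q ⊓ Cfsg.Geo.specialLinear ι F) :=
  isMaximalIn_of_full hQ h2 (by omega) fun H hMH _ g hgH hg => by
    obtain ⟨v, w, hv, hvQ, hR, hind⟩ := generic_of_not_similarity hQ h2 hn hMH hgH hg
    exact ⟨v, hv, hvQ, full_of_generic hQ h2 hn hMH hv hvQ hR hind⟩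

end Cfsg.Agent.Lib.FormMax.OrthSL
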