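import Cfsg.Agent.Lib.FormMax.Trans

/-!
Symplectic similitudes form a maximal subgroup of `SL`.
-/

set_option autoImplicit false

namespace Cfsg.Agent.Lib.FormMax

open Matrix

variable {ι : Type} [Fintype ι] [DecidableEq ι] {F : Type*} [Field F]
  {f : (ι → F) → (ι → F) → F}

section

variable (hf : Cfsg.Geo.IsSymplecticForm f)
include hf

theorem s_sub_right (u v w : ι → F) : f u (v - w) = f u v - f u w := by
  rw [sub_eq_add_neg, hf.bilinear.add_right, ← neg_one_smul F w, hf.bilinear.smul_right]; ring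

theorem s_zero_left (v : ι → F) : f 0 v = 0 := by
  rw [← zero_smul F (0 : ι → F), hf.bilinear.smul_left, zero_mul]

theorem s_sum_left {κ : Type*} (s : Finset κ) (x : κ → ι → F) (w : ι → F) :
    f (∑ i ∈ s, x i) w = ∑ i ∈ s, f (x i) w := by
  classical
  induction s using Finset.induction_on with
  | empty => simp [s_zero_left hf]
  | insert a t ha ih => rw [Finset.sum_insert ha, Finset.sum_insert ha, hf.bilinear.add_left, ih]

/-- The dual vector of `x ↦ f x w`. -/
theorem exists_dual : ∃ A : (ι → F) →ₗ[F] (ι → F), Function.Bijective A ∧ ∀ w x, A w ⬝ᵥ x = f x w := by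
  let A : (ι → F) →ₗ[F] (ι → F) :=
    { toFun := fun w i => f (Pi.single i 1) w
      map_add' := fun a b => funext fun i => hf.bilinear.add_right _ _ _
      map_smul' := fun c a => funext fun i => hf.bilinear.smul_right _ _ _ }
  have hA : ∀ w x, A w ⬝ᵥ x = f x w := by
    intro w x
    conv_rhs => rw [pi_eq_sum_univ' x, s_sum_left hf]
    refine Finset.sum_congr rfl fun i _ => ?_
    show f (Pi.single i 1) w * x i = f (x i • Pi.single i 1) w
    rw [hf.bilinear.smul_left, mul_comm]
  refine ⟨A, ?_, hA⟩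
  have hinj : Function.Injective A := by
    rw [injective_iff_map_eq_zero]
    intro w hw
    by_contra h0
    obtain ⟨x, hx⟩ := (hf.nondegenerate w h0).1
    rw [← hA, hw, zero_dotProduct] at hx
    exact hx rfl
  exact ⟨hinj, LinearMap.injective_iff_surjective.mp hinj⟩

/-- Two nonzero vectors have a common non-orthogonal vector. -/
theorem exists_common {v u : ι → F} (hv : v ≠ 0) (hu : u ≠ 0) : ∃ z, f v z ≠ 0 ∧ f u z ≠ 0 := by
  obtain ⟨a, ha⟩ := (hf.nondegenerate v hv).2
  obtain ⟨b, hb⟩ := (hf.nondegenerate u hu).2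
  by_cases h1 : f u a = 0
  · by_cases h2 : f v b = 0
    · exact ⟨a + b, by rwa [hf.bilinear.add_right, h2, add_zero],
        by rwa [hf.bilinear.add_right, h1, zero_add]⟩
    · exact ⟨b, h2, hb⟩
  · exact ⟨a, ha, h1⟩

/-- A vector outside the line of `v` is separated from `v`. -/
theorem exists_sep {v w : ι → F} (hw : ∀ c : F, w ≠ c • v) : ∃ x, f v x = 0 ∧ f w x ≠ 0 := by
  by_contra hno
  push Not at hno
  rcases eq_or_ne v 0 with rfl | hv
  · have hw0 : w ≠ 0 := fun e => hw 0 (by rw [e, smul_zero])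
    obtain ⟨x, hx⟩ := (hf.nondegenerate w hw0).2
    exact hx (hno x (s_zero_left hf x))
  obtain ⟨z, hz⟩ := (hf.nondegenerate v hv).2
  refine hw (f w z / f v z) ?_
  by_contra hne
  obtain ⟨x, hx⟩ := (hf.nondegenerate (w - (f w z / f v z) • v) (sub_ne_zero.mpr hne)).2
  apply hx
  have e : ∀ y, f (w - (f w z / f v z) • v) y = f w y - f w z / f v z * f v y := fun y => by
    rw [sub_eq_add_neg, hf.bilinear.add_left, ← neg_smul, hf.bilinear.smul_left]; ring
  rw [e]
  have h1 := hno (x - (f v x / f v z) • z) (by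
    rw [s_sub_right hf, hf.bilinear.smul_right, div_mul_cancel₀ _ hz, sub_self])
  rw [s_sub_right hf, hf.bilinear.smul_right] at h1
  linear_combination h1

/-- The similitudes in `SL` are maximal. -/
theorem isMaximalIn_similarity (h3 : 3 ≤ Fintype.card ι) :
    Cfsg.Geo.IsMaximalIn (Cfsg.Geo.specialLinear ι F)
      (Cfsg.Geo.similarityGroup f ⊓ Cfsg.Geo.specialLinear ι F) := by
  classical
  obtain ⟨A, hAb, hA⟩ := exists_dual hf
  have hA0 : ∀ {v w}, f v w = 0 → A w ⬝ᵥ v = 0 := fun h => by rw [hA]; exact h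
  have hvv : ∀ v, f v v = 0 := hf.alternating
  have hsym : ∀ v w, f v w = 0 → f w v = 0 := fun v w h => by rw [hf.skew, h, neg_zero]
  have hAc : ∀ (c : F) {v w}, f v w = 0 → (c • A w) ⬝ᵥ v = 0 := fun c v w h => by
    rw [smul_dotProduct, hA0 h, smul_zero]
  -- symplectic transvections
  have hTiso : ∀ (x : ι → F) (c : F) (u w : ι → F),
      f ((Tr x (c • A x) (hAc c (hvv x)) : Matrix ι ι F) *ᵥ u)
        ((Tr x (c • A x) (hAc c (hvv x)) : Matrix ι ι F) *ᵥ w) = f u w := fun x c u w => by
    rw [Tr_mulVec, Tr_mulVec, smul_dotProduct, smul_dotProduct, hA, hA, hf.bilinear.add_left,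
      hf.bilinear.add_right, hf.bilinear.add_right, hf.bilinear.smul_left, hf.bilinear.smul_left,
      hf.bilinear.smul_right, hf.bilinear.smul_right, hvv, hf.skew x w]
    simp only [smul_eq_mul]; ring
  have hTsim : ∀ (x : ι → F) (c : F),
      Tr x (c • A x) (hAc c (hvv x)) ∈ Cfsg.Geo.similarityGroup f ⊓ Cfsg.Geo.specialLinear ι F :=
    fun x c => ⟨⟨1, fun u w => by rw [hTiso, Units.val_one, one_mul]⟩, Tr_mem_SL _ _ _⟩
  obtain ⟨e, he⟩ : ∃ e : ι → F, e ≠ 0 := by
    obtain ⟨i⟩ : Nonempty ι := Fintype.card_pos_iff.mp (by omega)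
    exact ⟨Pi.single i 1, by simp⟩
  refine ⟨lt_of_le_of_ne inf_le_right fun heq => ?_, fun H hMH hHS => ?_⟩
  · obtain ⟨w, hew, hw⟩ : ∃ w, f e w = 0 ∧ ∀ c : F, w ≠ c • e := by
      let φ : (ι → F) →ₗ[F] F :=
        { toFun := f e, map_add' := hf.bilinear.add_right e, map_smul' := fun c x => hf.bilinear.smul_right c e x }
      have h1 := φ.finrank_range_add_finrank_ker
      have h2 : Module.finrank F φ.range ≤ 1 := by
        simpa using Submodule.finrank_le φ.range
      rw [Module.finrank_fintype_fun_eq_card] at h1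
      by_contra hno
      push Not at hno
      have hle : φ.ker ≤ Submodule.span F {e} := fun w hw => by
        obtain ⟨c, hc⟩ := hno w hw
        exact Submodule.mem_span_singleton.mpr ⟨c, hc.symm⟩
      have h4 := Submodule.finrank_mono hle
      rw [finrank_span_singleton he] at h4
      omega
    obtain ⟨c, hc⟩ := (heq.ge (Tr_mem_SL e (A w) (hA0 hew))).1
    obtain ⟨y, hy⟩ := (hf.nondegenerate e he).2
    have key : ∀ a b : ι → F, f a b + f b w * f a e + f a w * f e b = (c : F) * f a b := fun a b => by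
      rw [← hc, Tr_mulVec, Tr_mulVec, hA, hA, hf.bilinear.add_left, hf.bilinear.add_right,
        hf.bilinear.add_right, hf.bilinear.smul_left, hf.bilinear.smul_left, hf.bilinear.smul_right,
        hf.bilinear.smul_right, hvv]
      ring
    have hc1 : (c : F) = 1 := by
      have h1 := key e y
      rw [hvv, hew, mul_zero, zero_mul, add_zero, add_zero] at h1
      exact mul_right_cancel₀ hy (h1.symm.trans (one_mul _).symm)
    obtain ⟨x, hxe, hxw⟩ := exists_sep hf hw
    have h1 := key x y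
    rw [hc1, one_mul, hsym _ _ hxe, mul_zero, add_zero] at h1
    have h2 : f x w ≠ 0 := fun h => hxw (hsym _ _ h)
    exact mul_ne_zero h2 hy (by linear_combination h1)
  by_cases hle : H ≤ Cfsg.Geo.similarityGroup f
  · exact Or.inl (le_antisymm (le_inf hle hHS) hMH)
  right
  obtain ⟨g, hgH, hg⟩ := SetLike.not_le_iff_exists.mp hle
  let R : (ι → F) → (ι → F) → Prop := fun v w =>
    f v w = 0 ∧ ∀ (c : F) (hc : (c • A w) ⬝ᵥ v = 0), Tr v (c • A w) hc ∈ H
  have hRself : ∀ v, R v v := fun v => ⟨hvv v, fun c _ => hMH (hTsim v c)⟩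
  -- a transvection that is not symplectic
  obtain ⟨v₀, w₀, hv₀, hR₀, hw₀⟩ : ∃ v w, v ≠ 0 ∧ R v w ∧ ∀ c : F, w ≠ c • v := by
    set gi := ((g⁻¹ : GL ι F) : Matrix ι ι F) with hgi
    set gm := (g : Matrix ι ι F) with hgm
    have hgg : ∀ x, gm *ᵥ (gi *ᵥ x) = x := fun x => by
      rw [hgm, hgi, mulVec_mulVec, ← Units.val_mul, mul_inv_cancel, Units.val_one, one_mulVec]
    have hgg' : ∀ x, gi *ᵥ (gm *ᵥ x) = x := fun x => by
      rw [hgm, hgi, mulVec_mulVec, ← Units.val_mul, inv_mul_cancel, Units.val_one, one_mulVec]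
    by_contra hno
    push Not at hno
    have hlam : ∀ y : ι → F, ∃ l : F, ∀ x, f (gi *ᵥ x) (gi *ᵥ y) = l * f x y := by
      intro y
      set u := gi *ᵥ y with hu
      obtain ⟨w, hw⟩ := hAb.2 (A u ᵥ* gi)
      have hyw : gm *ᵥ u = y := hgg y
      have hfw : ∀ x, f x w = f (gi *ᵥ x) u := fun x => by
        rw [← hA, hw, ← dotProduct_mulVec, hA]
      have hR : R y w := by
        refine ⟨by rw [hfw]; exact hvv u, fun c hc => ?_⟩
        have h1 := H.mul_mem (H.mul_mem hgH (hMH (hTsim u c))) (H.inv_mem hgH)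
        rw [conj_Tr] at h1
        convert h1 using 1
        refine gl_ext fun x => ?_
        rw [Tr_mulVec, Tr_mulVec, smul_vecMul, ← hgi, ← hgm, hyw, ← hw]
      rcases eq_or_ne y 0 with rfl | hy0
      · exact ⟨0, fun x => by rw [hu, mulVec_zero, hf.skew, s_zero_left hf]; simp⟩
      obtain ⟨l, hl⟩ := hno y w hy0 hR
      exact ⟨l, fun x => by rw [← hfw, hl, hf.bilinear.smul_right]⟩
    choose l hl using hlam
    have hpair : ∀ x y, f x y ≠ 0 → l x = l y := by
      intro x y hxy
      have h1 := hl y x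
      rw [hf.skew (gi *ᵥ x), hl x y, hf.skew y x] at h1
      exact mul_right_cancel₀ hxy (by linear_combination h1)
    obtain ⟨y₀, hy₀⟩ := (hf.nondegenerate e he).2
    have hconst : ∀ y, y ≠ 0 → l y = l e := by
      intro y hy
      obtain ⟨z, hz1, hz2⟩ := exists_common hf hy he
      rw [hpair y z hz1, hpair e z hz2]
    have hmain : ∀ x y, f (gi *ᵥ x) (gi *ᵥ y) = l e * f x y := by
      intro x y
      rcases eq_or_ne y 0 with rfl | hy
      · rw [mulVec_zero, hf.skew, s_zero_left hf, hf.skew x, s_zero_left hf]; ring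
      · rw [hl, hconst y hy]
    have hle0 : l e ≠ 0 := by
      intro h0
      have := hmain (gm *ᵥ e) (gm *ᵥ y₀)
      rw [hgg', hgg', h0, zero_mul] at this
      exact hy₀ this
    refine hg ⟨(Units.mk0 _ hle0)⁻¹, fun x y => ?_⟩
    have := hmain (gm *ᵥ x) (gm *ᵥ y)
    rw [hgg', hgg'] at this
    rw [Units.val_inv_eq_inv_val, Units.val_mk0, this, ← mul_assoc, inv_mul_cancel₀ hle0, one_mul]
  -- operations on the pairs
  have hadd : ∀ {v a b}, R v a → R v b → R v (a + b) := fun {v a b} ha hb => by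
    refine ⟨by rw [hf.bilinear.add_right, ha.1, hb.1, add_zero], fun c hc => ?_⟩
    have h1 := H.mul_mem (ha.2 c (hAc c ha.1)) (hb.2 c (hAc c hb.1))
    rw [Tr_mul] at h1
    convert h1 using 1
    refine gl_ext fun x => ?_
    rw [Tr_mulVec, Tr_mulVec, map_add, smul_add]
  have hsmul : ∀ {v a} (d : F), R v a → R v (d • a) := fun {v a} d ha => by
    refine ⟨by rw [hf.bilinear.smul_right, ha.1, mul_zero], fun c hc => ?_⟩
    convert ha.2 (c * d) (hAc _ ha.1) using 1
    refine gl_ext fun x => ?_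
    rw [Tr_mulVec, Tr_mulVec, map_smul, smul_smul]
  have hconj : ∀ {v a} (x : ι → F) (c : F), R v a →
      R (v + (c * f v x) • x) (a + (c * f a x) • x) := fun {v a} x c ha => by
    set T := Tr x (c • A x) (hAc c (hvv x)) with hT
    have hv' : (T : Matrix ι ι F) *ᵥ v = v + (c * f v x) • x := by
      rw [hT, Tr_mulVec, smul_dotProduct, hA, smul_eq_mul]
    have ha' : (T : Matrix ι ι F) *ᵥ a = a + (c * f a x) • x := by
      rw [hT, Tr_mulVec, smul_dotProduct, hA, smul_eq_mul]
    refine ⟨by rw [← hv', ← ha', hT, hTiso]; exact ha.1, fun d hd => ?_⟩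
    have h1 := H.mul_mem (H.mul_mem (hMH (hTsim x c)) (ha.2 d (hAc d ha.1))) (H.inv_mem (hMH (hTsim x c)))
    rw [conj_Tr] at h1
    convert h1 using 1
    refine gl_ext fun y => ?_
    rw [Tr_mulVec, Tr_mulVec, smul_vecMul, ← hT, hv', smul_dotProduct, smul_dotProduct, hA,
      ← dotProduct_mulVec, hA, ← ha']
    have h2 := hTiso x c (((T⁻¹ : GL ι F) : Matrix ι ι F) *ᵥ y) a
    rw [← hT, mulVec_mulVec, ← Units.val_mul, mul_inv_cancel, Units.val_one, one_mulVec] at h2
    rw [h2]
  -- the whole perpendicular of a centre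
  have hperp : ∀ {v w}, R v w → (∀ c : F, w ≠ c • v) → ∀ t, f v t = 0 → R v t := by
    intro v w hR hw t ht
    have step : ∀ x, f v x = 0 → f w x ≠ 0 → R v x := by
      intro x hx hwx
      have h1 := hconj x (f w x)⁻¹ hR
      rw [hx, mul_zero, zero_smul, add_zero, inv_mul_cancel₀ hwx, one_smul] at h1
      have h2 := hadd h1 (hsmul (-1) hR)
      rwa [neg_one_smul, add_comm w x, add_neg_cancel_right] at h2
    by_cases hwt : f w t = 0
    · obtain ⟨x, hx, hwx⟩ := exists_sep hf hw
      have h1 := step (t + x) (by rw [hf.bilinear.add_right, ht, hx, add_zero])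
        (by rw [hf.bilinear.add_right, hwt, zero_add]; exact hwx)
      have h2 := hadd h1 (hsmul (-1) (step x hx hwx))
      rwa [neg_one_smul, add_neg_cancel_right] at h2
    · exact step t ht hwt
  have hmove : ∀ {v}, (∀ t, f v t = 0 → R v t) → ∀ u, f v u ≠ 0 → ∀ t, f u t = 0 → R u t := by
    intro v hv u hvu t ht
    have h0 : f (v - u) u = f v u := by
      rw [sub_eq_add_neg, hf.bilinear.add_left, ← neg_one_smul F u, hf.bilinear.smul_left, hvv,
        mul_zero, add_zero]
    set x := u - v with hx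
    set c := (f v u)⁻¹ with hcdef
    have hvx : f v x = f v u := by rw [hx, s_sub_right hf, hvv, sub_zero]
    have hux : f u x = f v u := by rw [hx, s_sub_right hf, hvv, zero_sub, hf.skew u v, neg_neg]
    -- the preimage of `t`
    have hvs : f v (t + (-c * f t x) • x) = 0 := by
      rw [hf.bilinear.add_right, hf.bilinear.smul_right, hvx, hcdef,
        show -(f v u)⁻¹ * f t x * f v u = -(f t x) by field_simp]
      rw [hx, s_sub_right hf, hf.skew t u, ht, hf.skew t v]
      ring
    have h1 := hconj x c (hv _ hvs)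
    rw [hvx, hcdef, inv_mul_cancel₀ hvu, one_smul] at h1
    rw [hf.bilinear.add_left, hf.bilinear.smul_left, hvv, mul_zero, add_zero, ← hcdef,
      show v + x = u by rw [hx]; abel,
      show t + (-c * f t x) • x + (c * f t x) • x = t by module] at h1
    exact h1
  refine eq_SL H hHS fun v a ha => ?_
  rcases eq_or_ne v 0 with rfl | hv
  · have : Tr (0 : ι → F) a ha = 1 := gl_ext fun x => by simp [Tr_mulVec]
    rw [this]; exact H.one_mem
  obtain ⟨w, rfl⟩ := hAb.2 a
  have hall : R v w := by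
    obtain ⟨z, hz1, hz2⟩ := exists_common hf hv₀ hv
    exact hmove (hmove (hperp hR₀ hw₀) z hz1) v (fun h => hz2 (hsym _ _ h)) w
      (by rw [← hA]; exact ha)
  have h1 := hall.2 1 (by rw [one_smul]; exact ha)
  convert h1 using 1
  refine gl_ext fun x => ?_
  rw [Tr_mulVec, Tr_mulVec, one_smul]

end

end Cfsg.Agent.Lib.FormMax
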