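import Mathlib
import Cfsg.Agent.Lib.FormMax.Trans
import Cfsg.Agent.Lib.Forms.Families
import Cfsg.Prelude.Def_GeometricClasses

/-!
# Unitary similitudes form a maximal subgroup of `SL`
-/

set_option autoImplicit false
set_option linter.unusedSectionVars false

namespace Cfsg.Agent.Lib.FormMax.UnitarySL

open Matrix
open Cfsg.Agent.Lib.FormMax (Tr Tr_mulVec gl_ext Tr_mul conj_Tr Tr_mem_SL eq_SL)

variable {ι : Type} [Fintype ι] [DecidableEq ι] {F : Type*} [Field F] [Finite F]
  {σ : F ≃+* F} {f : (ι → F) → (ι → F) → F}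

variable (hf : Cfsg.Geo.IsUnitaryForm σ f)
include hf

theorem u_add_right (u v w : ι → F) : f u (v + w) = f u v + f u w := by
  rw [hf.herm, hf.add_left, map_add, ← hf.herm, ← hf.herm]

theorem u_smul_right (c : F) (u v : ι → F) : f u (c • v) = σ c * f u v := by
  rw [hf.herm, hf.smul_left, map_mul, ← hf.herm]

theorem u_zero_left (v : ι → F) : f 0 v = 0 := by
  rw [← zero_smul F (0 : ι → F), hf.smul_left, zero_mul]

theorem u_zero_right (v : ι → F) : f v 0 = 0 := by rw [hf.herm, u_zero_left hf, map_zero]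

theorem u_neg_left (u v : ι → F) : f (-u) v = -f u v := by
  rw [← neg_one_smul F u, hf.smul_left, neg_one_mul]

theorem u_neg_right (u v : ι → F) : f u (-v) = -f u v := by
  rw [hf.herm, u_neg_left hf, map_neg, ← hf.herm]

theorem u_sub_left (u v w : ι → F) : f (u - v) w = f u w - f v w := by
  rw [sub_eq_add_neg, hf.add_left, u_neg_left hf, ← sub_eq_add_neg]

theorem u_sub_right (u v w : ι → F) : f u (v - w) = f u v - f u w := by
  rw [sub_eq_add_neg, u_add_right hf, u_neg_right hf, ← sub_eq_add_neg]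

theorem u_symm {u v : ι → F} (h : f u v = 0) : f v u = 0 := by rw [hf.herm, h, map_zero]

theorem u_sum_left {κ : Type*} (s : Finset κ) (x : κ → ι → F) (w : ι → F) :
    f (∑ i ∈ s, x i) w = ∑ i ∈ s, f (x i) w := by
  classical
  induction s using Finset.induction_on with
  | empty => simp [u_zero_left hf]
  | insert a t ha ih => rw [Finset.sum_insert ha, Finset.sum_insert ha, hf.add_left, ih]

theorem exists_dual_left {v : ι → F} (hv : v ≠ 0) : ∃ x, f v x ≠ 0 := (hf.nondegenerate v hv).2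

theorem exists_skew : ∃ δ : F, δ ≠ 0 ∧ δ + σ δ = 0 := by
  obtain ⟨a, ha⟩ : ∃ a, σ a ≠ a := by
    by_contra h
    push Not at h
    exact hf.ne_refl (RingEquiv.ext h)
  exact ⟨a - σ a, sub_ne_zero.mpr (Ne.symm ha), by rw [map_sub, hf.involutive]; ring⟩

theorem exists_trace_one : ∃ τ : F, τ + σ τ = 1 := by
  obtain ⟨x, hx⟩ : ∃ x, x + σ x ≠ 0 := by
    by_contra h
    push Not at h
    refine hf.ne_refl (RingEquiv.ext fun x => ?_)
    have h1 := h 1
    rw [map_one] at h1
    rw [RingEquiv.refl_apply]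
    linear_combination h x - x * h1
  refine ⟨x / (x + σ x), ?_⟩
  rw [map_div₀, map_add, hf.involutive, add_comm (σ x) x, ← add_div, div_self hx]

theorem exists_fill {x z : ι → F} (hz : f z z = 0) (hxz : f x z ≠ 0) :
    ∃ t : F, f (x + t • z) (x + t • z) = 0 := by
  obtain ⟨τ, hτ⟩ := exists_trace_one hf
  have hzx : f z x ≠ 0 := fun e => hxz (u_symm hf e)
  refine ⟨-(f x x * τ) / f z x, ?_⟩
  rw [hf.add_left, u_add_right hf, u_add_right hf, hf.smul_left, hf.smul_left, u_smul_right hf,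
    u_smul_right hf, hz, mul_zero, mul_zero, add_zero, div_mul_cancel₀ _ hzx, map_div₀, map_neg,
    map_mul, ← hf.herm, ← hf.herm, div_mul_cancel₀ _ hxz]
  linear_combination (-(f x x)) * hτ

theorem exists_isotropic_in {W : Submodule F (ι → F)} (hW : 2 ≤ Module.finrank F W) :
    ∃ z ∈ W, z ≠ 0 ∧ f z z = 0 := by
  obtain ⟨u, hu, hu0⟩ : ∃ u ∈ W, u ≠ 0 := by
    refine Submodule.exists_mem_ne_zero_of_ne_bot fun h => ?_
    rw [h, finrank_bot] at hW
    omega
  by_cases huu : f u u = 0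
  · exact ⟨u, hu, hu0, huu⟩
  obtain ⟨w, hw, hwu⟩ : ∃ w ∈ W, w ∉ Submodule.span F {u} := by
    by_contra h
    push Not at h
    have := Submodule.finrank_mono (show W ≤ Submodule.span F {u} from h)
    rw [finrank_span_singleton hu0] at this
    omega
  obtain ⟨w', hw'⟩ : ∃ w', w' = w - (f w u / f u u) • u := ⟨_, rfl⟩
  have hw'W : w' ∈ W := hw' ▸ W.sub_mem hw (W.smul_mem _ hu)
  have hw'u : f w' u = 0 := by
    rw [hw', u_sub_left hf, hf.smul_left, div_mul_cancel₀ _ huu, sub_self]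
  have hw'0 : w' ≠ 0 := fun e => hwu (by
    rw [hw', sub_eq_zero] at e
    rw [e]
    exact Submodule.smul_mem _ _ (Submodule.mem_span_singleton_self u))
  by_cases hww : f w' w' = 0
  · exact ⟨w', hw'W, hw'0, hww⟩
  obtain ⟨l, hl⟩ := Cfsg.Agent.Lib.Forms.exists_norm_eq (σ := (σ : F →+* F))
    (fun h => hf.ne_refl (RingEquiv.ext fun z => RingHom.congr_fun h z)) hf.involutive
    (c := -(f u u) / f w' w') (by
      show σ _ = _
      rw [map_div₀, map_neg, ← hf.herm, ← hf.herm])
  change l * σ l = _ at hl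
  refine ⟨u + l • w', W.add_mem hu (W.smul_mem l hw'W), fun e => huu ?_, ?_⟩
  · have := congrArg (fun y => f y u) e
    simpa [hf.add_left, hf.smul_left, hw'u, u_zero_left hf] using this
  · rw [hf.add_left, u_add_right hf, u_add_right hf, hf.smul_left, hf.smul_left, u_smul_right hf,
      u_smul_right hf, hw'u, u_symm hf hw'u, mul_zero, add_zero, mul_zero, zero_add,
      ← mul_assoc, hl, div_mul_cancel₀ _ hww, add_neg_cancel]

/-- An isotropic pair in the perpendicular space, avoiding the radical of the span. -/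
theorem exists_perp_pair_rad {k : ℕ} (c : Fin k → ι → F) (R : Submodule F (ι → F))
    (hR : ∀ x ∈ Submodule.span F (Set.range c), (∀ i, f x (c i) = 0) → x ∈ R)
    (hn : k + Module.finrank F R + 2 ≤ Fintype.card ι) :
    ∃ p q, f p p = 0 ∧ f q q = 0 ∧ f p q ≠ 0 ∧ (∀ i, f p (c i) = 0) ∧ ∀ i, f q (c i) = 0 := by
  set C := Submodule.span F (Set.range c) with hC
  obtain ⟨L, hL⟩ := LinearMap.exists_leftInverse_of_injective R.subtype R.ker_subtype
  let φ : (ι → F) →ₗ[F] (Fin k → F) :=
    { toFun := fun x i => f x (c i)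
      map_add' := fun x y => funext fun i => hf.add_left x y (c i)
      map_smul' := fun a x => funext fun i => hf.smul_left a x (c i) }
  have h1 := (φ.prod L).finrank_range_add_finrank_ker
  have h2 : Module.finrank F (φ.prod L).range ≤ k + Module.finrank F R := by
    refine (Submodule.finrank_le _).trans ?_
    rw [Module.finrank_prod, Module.finrank_fin_fun]
  rw [Module.finrank_fintype_fun_eq_card] at h1
  obtain ⟨p, hp, hp0, hpp⟩ := exists_isotropic_in hf (W := (φ.prod L).ker) (by omega)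
  rw [LinearMap.mem_ker, LinearMap.prod_apply, Function.prod_apply, Prod.mk_eq_zero] at hp
  have hpc : ∀ i, f p (c i) = 0 := fun i => congrFun hp.1 i
  have hpR : p ∉ R := fun h => hp0 (by
    have h3 := LinearMap.congr_fun hL ⟨p, h⟩
    simp only [LinearMap.comp_apply, Submodule.subtype_apply, hp.2, LinearMap.id_apply] at h3
    exact (congrArg Subtype.val h3).symm)
  -- a vector orthogonal to the given ones and not to `p`
  obtain ⟨q, hqc, hqp⟩ : ∃ q, φ q = 0 ∧ f q p ≠ 0 := by
    by_contra hno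
    push Not at hno
    let χ : (ι → F) →ₗ[F] F :=
      { toFun := fun x => f x p
        map_add' := fun x y => hf.add_left x y p
        map_smul' := fun a x => hf.smul_left a x p }
    obtain ⟨a, ha⟩ := (Submodule.mem_span_range_iff_exists_fun F).mp
      (mem_span_of_iInf_ker_le_ker (L := fun i => (LinearMap.proj i).comp φ) (K := χ) fun x hx => by
        rw [LinearMap.mem_ker]
        refine hno x (funext fun i => ?_)
        exact (Submodule.mem_iInf _).mp hx i)
    refine hpR (hR p ?_ hpc)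
    have e : p = ∑ i, σ (a i) • c i := by
      by_contra hne
      obtain ⟨x, hx⟩ := (hf.nondegenerate _ (sub_ne_zero.mpr hne)).1
      refine hx ?_
      have h4 := LinearMap.congr_fun ha x
      simp only [LinearMap.coe_sum, Finset.sum_apply, LinearMap.smul_apply, LinearMap.comp_apply,
        LinearMap.proj_apply, smul_eq_mul] at h4
      have hs : f x (∑ i, σ (a i) • c i) = ∑ i, a i * f x (c i) := by
        rw [hf.herm, u_sum_left hf, map_sum]
        exact Finset.sum_congr rfl fun i _ => by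
          rw [hf.smul_left, map_mul, hf.involutive, ← hf.herm]
      rw [u_sub_right hf, hs, sub_eq_zero]
      exact h4.symm
    rw [e]
    exact Submodule.sum_mem _ fun i _ => C.smul_mem _ (Submodule.subset_span ⟨i, rfl⟩)
  obtain ⟨t, ht⟩ := exists_fill hf hpp hqp
  refine ⟨p, q + t • p, hpp, ht, ?_, hpc, fun i => ?_⟩
  · rw [u_add_right hf, u_smul_right hf, hpp, mul_zero, add_zero]
    exact fun e => hqp (u_symm hf e)
  · rw [hf.add_left, hf.smul_left, hpc, mul_zero, add_zero]
    exact congrFun hqc i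

/-- An isotropic pair in the perpendicular space of few vectors. -/
theorem exists_perp_pair {k : ℕ} (c : Fin k → ι → F) (hn : 2 * k + 2 ≤ Fintype.card ι) :
    ∃ p q, f p p = 0 ∧ f q q = 0 ∧ f p q ≠ 0 ∧ (∀ i, f p (c i) = 0) ∧ ∀ i, f q (c i) = 0 := by
  have hCk : Module.finrank F (Submodule.span F (Set.range c)) ≤ k := by
    have := finrank_range_le_card (R := F) c
    simpa [Set.finrank] using this
  exact exists_perp_pair_rad hf c _ (fun _ h _ => h) (by omega)

/-- Three vectors spanning an isotropic line and a hyperbolic plane orthogonal to it. -/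
theorem exists_perp_pair_three {v x y : ι → F} (hv : f v v = 0) (hvx : f v x = 0) (hvy : f v y = 0)
    (hx : f x x = 0) (hy : f y y = 0) (hyx : f y x ≠ 0) (hn : 6 ≤ Fintype.card ι) :
    ∃ p q, f p p = 0 ∧ f q q = 0 ∧ f p q ≠ 0 ∧ (∀ i, f p (![v, x, y] i) = 0) ∧ ∀ i, f q (![v, x, y] i) = 0 := by
  refine exists_perp_pair_rad hf ![v, x, y] (Submodule.span F {v}) (fun z hz h => ?_) ?_
  · obtain ⟨a, ha⟩ := (Submodule.mem_span_range_iff_exists_fun F).mp hz
    rw [Fin.sum_univ_three] at ha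
    simp only [Matrix.cons_val_zero, Matrix.cons_val_one, Matrix.cons_val_two, Matrix.tail_cons, Matrix.head_cons] at ha
    have h1 : f z x = 0 := h 1
    have h2 : f z y = 0 := h 2
    rw [← ha] at h1 h2
    simp only [hf.add_left, hf.smul_left, hvx, hvy, hx, hy, mul_zero, zero_add, add_zero] at h1 h2
    have hxy : f x y ≠ 0 := fun e => hyx (u_symm hf e)
    rw [← ha, (mul_eq_zero.mp h1).resolve_right hyx, (mul_eq_zero.mp h2).resolve_right hxy]
    exact Submodule.mem_span_singleton.mpr ⟨a 0, by simp⟩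
  · have h1 : Module.finrank F (Submodule.span F ({v} : Set (ι → F))) ≤ 1 := by
      simpa using finrank_span_le_card ({v} : Set (ι → F))
    omega

/-- Induction over isotropic vectors in the perpendicular space of few vectors. -/
theorem perp_induction {k : ℕ} (c : Fin k → ι → F)
    (hc : ∃ p q, f p p = 0 ∧ f q q = 0 ∧ f p q ≠ 0 ∧ (∀ i, f p (c i) = 0) ∧ ∀ i, f q (c i) = 0)
    {P : (ι → F) → Prop} (hP : ∀ a b, P a → P b → P (a + b))
    (hiso : ∀ z, f z z = 0 → (∀ i, f z (c i) = 0) → P z) {u : ι → F} (hu : ∀ i, f u (c i) = 0) : P u := by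
  obtain ⟨p, q, hpp, hqq, hpq, hpc, hqc⟩ := hc
  have split : ∀ y, (∀ i, f y (c i) = 0) → f y p ≠ 0 → P y := by
    intro y hy hyp
    obtain ⟨t, ht⟩ := exists_fill hf hpp hyp
    have h1 := hP _ _ (hiso _ ht (fun i => by rw [hf.add_left, hf.smul_left, hy, hpc, mul_zero, add_zero]))
      (hiso ((-t) • p) (by rw [hf.smul_left, u_smul_right hf, hpp, mul_zero, mul_zero])
        fun i => by rw [hf.smul_left, hpc, mul_zero])
    rwa [neg_smul, add_neg_cancel_right] at h1
  by_cases hup : f u p = 0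
  · have h1 := hP _ _ (split (u + q) (fun i => by rw [hf.add_left, hu, hqc, add_zero])
      (by rw [hf.add_left, hup, zero_add]; exact fun e => hpq (u_symm hf e)))
      (hiso (-q) (by rw [u_neg_left hf, u_neg_right hf, hqq, neg_zero, neg_zero])
        fun i => by rw [u_neg_left hf, hqc, neg_zero])
    rwa [add_neg_cancel_right] at h1
  · exact split u hu hup

theorem exists_isotropic_ne {k : ℕ} (c : Fin k → ι → F)
    (hc : ∃ p q, f p p = 0 ∧ f q q = 0 ∧ f p q ≠ 0 ∧ (∀ i, f p (c i) = 0) ∧ ∀ i, f q (c i) = 0) {u a : ι → F}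
    (hu : ∀ i, f u (c i) = 0) (ha : f u a ≠ 0) :
    ∃ z, f z z = 0 ∧ (∀ i, f z (c i) = 0) ∧ f z a ≠ 0 := by
  by_contra hno
  push Not at hno
  exact ha (perp_induction hf c hc (P := fun z => f z a = 0)
    (fun x y hx hy => by rw [hf.add_left, hx, hy, add_zero]) hno hu)

/-- A vector off the line of `v` is separated from `v`. -/
theorem exists_sep {v w : ι → F} (hw : ∀ c : F, w ≠ c • v) : ∃ x, f v x = 0 ∧ f w x ≠ 0 := by
  by_contra hno
  push Not at hno
  rcases eq_or_ne v 0 with rfl | hv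
  · obtain ⟨x, hx⟩ := exists_dual_left hf (v := w) (fun e => hw 0 (by rw [e, smul_zero]))
    exact hx (hno x (u_zero_left hf x))
  obtain ⟨z, hz⟩ := exists_dual_left hf hv
  refine hw (f w z / f v z) ?_
  by_contra hne
  obtain ⟨x, hx⟩ := exists_dual_left hf (v := w - (f w z / f v z) • v) (sub_ne_zero.mpr hne)
  apply hx
  rw [u_sub_left hf, hf.smul_left]
  have h1 := hno (x - σ (f v x / f v z) • z) (by
    rw [u_sub_right hf, u_smul_right hf, hf.involutive, div_mul_cancel₀ _ hz, sub_self])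
  rw [u_sub_right hf, u_smul_right hf, hf.involutive] at h1
  linear_combination h1

/-- Two non-zero isotropic vectors have a common isotropic partner. -/
theorem exists_common {v u : ι → F} (hv0 : v ≠ 0) (hv : f v v = 0) (hu0 : u ≠ 0) (hu : f u u = 0) :
    ∃ z, f z z = 0 ∧ f v z ≠ 0 ∧ f u z ≠ 0 := by
  obtain ⟨z, hz1, hz2⟩ : ∃ z, f v z ≠ 0 ∧ f u z ≠ 0 := by
    obtain ⟨a, ha⟩ := exists_dual_left hf hv0
    obtain ⟨b, hb⟩ := exists_dual_left hf hu0
    by_cases h1 : f u a = 0
    · by_cases h2 : f v b = 0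
      · exact ⟨a + b, by rwa [u_add_right hf, h2, add_zero], by rwa [u_add_right hf, h1, zero_add]⟩
      · exact ⟨b, h2, hb⟩
    · exact ⟨a, ha, h1⟩
  by_cases huv : f u v = 0
  · obtain ⟨t, ht⟩ := exists_fill hf hv (fun e => hz1 (u_symm hf e))
    refine ⟨z + t • v, ht, ?_, ?_⟩
    · rwa [u_add_right hf, u_smul_right hf, hv, mul_zero, add_zero]
    · rwa [u_add_right hf, u_smul_right hf, huv, mul_zero, add_zero]
  · -- use an isotropic vector of the plane of `u` and `v`
    obtain ⟨δ, hδ0, hδ⟩ := exists_skew hf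
    have hvu : f v u ≠ 0 := fun e => huv (u_symm hf e)
    refine ⟨u + (δ / f v u) • v, ?_, ?_, ?_⟩
    · rw [hf.add_left, u_add_right hf, u_add_right hf, hf.smul_left, hf.smul_left, u_smul_right hf,
        u_smul_right hf, hu, hv, div_mul_cancel₀ _ hvu, map_div₀, ← hf.herm, div_mul_cancel₀ _ huv]
      linear_combination hδ
    · rwa [u_add_right hf, u_smul_right hf, hv, mul_zero, add_zero]
    · rw [u_add_right hf, u_smul_right hf, hu, map_div₀, ← hf.herm, div_mul_cancel₀ _ huv, zero_add]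
      exact fun e => hδ0 (σ.injective (by rw [e, map_zero]))

theorem exists_norm_one_square : ∃ μ z : F, σ μ * μ = 1 ∧ σ μ ≠ μ ∧ z * z * μ = 1 := by
  classical
  obtain ⟨δ, hδ0, hδ⟩ := exists_skew hf
  obtain ⟨τ, hτ⟩ := exists_trace_one hf
  obtain ⟨a, ha0, ha1, ha2⟩ : ∃ a : F, a ≠ 0 ∧ σ a ≠ a ∧ σ a ≠ -a := by
    have hn : ∀ a : F, a + σ a = 1 → σ a ≠ -a := fun a h e => one_ne_zero (by linear_combination -h + e)
    by_cases h : σ τ = τ
    · have h2 : (2 : F) ≠ 0 := fun e => one_ne_zero (by linear_combination -hτ + h + τ * e)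
      have hσ : σ (τ + δ) = τ - δ := by rw [map_add, h]; linear_combination hδ
      refine ⟨τ + δ, fun e => ?_, fun e => ?_, hn _ (by rw [hσ]; linear_combination hτ - h)⟩
      · have := congrArg σ e
        rw [hσ, map_zero] at this
        exact mul_ne_zero h2 hδ0 (by linear_combination e - this)
      · rw [hσ] at e
        exact mul_ne_zero h2 hδ0 (by linear_combination -e)
    · exact ⟨τ, fun e => h (by rw [e, map_zero]), h, hn τ hτ⟩
  have hσa : σ a ≠ 0 := (map_ne_zero σ).mpr ha0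
  have hμ0 : a / σ a ≠ 0 := div_ne_zero ha0 hσa
  have hsq : IsSquare (a / σ a) := by
    haveI := Fintype.ofFinite F
    by_cases h2 : ringChar F = 2
    · exact FiniteField.isSquare_of_char_two h2 _
    refine (FiniteField.isSquare_iff h2 hμ0).mpr ?_
    rcases FiniteField.pow_dichotomy h2 ha0 with e | e <;>
      rw [div_pow, ← map_pow, e] <;> simp
  obtain ⟨z, hz⟩ := hsq
  refine ⟨σ a / a, z, ?_, ?_, ?_⟩
  · rw [map_div₀, hf.involutive]; field_simp
  · rw [map_div₀, hf.involutive, ne_eq, div_eq_div_iff hσa ha0]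
    intro e
    rcases mul_self_eq_mul_self_iff.mp e with h | h
    · exact ha1 h.symm
    · exact ha2 (by linear_combination h)
  · rw [← hz]; field_simp

theorem exists_two_skew {μ : F} (hμ : σ μ ≠ μ) {δ : F} (hδ0 : δ ≠ 0) (hδ : δ + σ δ = 0) (a : F) :
    ∃ c d : F, c + σ c = 0 ∧ d + σ d = 0 ∧ c + μ * d = a := by
  have hσδ : σ δ = -δ := by linear_combination hδ
  have hne : μ - σ μ ≠ 0 := sub_ne_zero.mpr (Ne.symm hμ)
  obtain ⟨d, hd⟩ : ∃ d, d = (a + σ a) / (μ - σ μ) := ⟨_, rfl⟩
  have hd' : σ d = -d := by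
    rw [hd, map_div₀, map_add, map_sub, hf.involutive, hf.involutive, ← neg_sub μ (σ μ), div_neg, add_comm]
  refine ⟨a - μ * d, d, ?_, by rw [hd', add_neg_cancel], by ring⟩
  rw [map_sub, map_mul, hd']
  have : d * (μ - σ μ) = a + σ a := by rw [hd, div_mul_cancel₀ _ hne]
  linear_combination -this

/-- The dual vector of `x ↦ f x w`. -/
def dual (f : (ι → F) → (ι → F) → F) (w : ι → F) : ι → F := fun i => f (Pi.single i 1) w

theorem dual_dot (w x : ι → F) : dual f w ⬝ᵥ x = f x w := by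
  conv_rhs => rw [pi_eq_sum_univ' x, u_sum_left hf]
  refine Finset.sum_congr rfl fun i _ => ?_
  show f (Pi.single i 1) w * x i = f (x i • Pi.single i 1) w
  rw [hf.smul_left, mul_comm]

theorem dual_surj (a : ι → F) : ∃ w, dual f w = a := by
  have : Finite (ι → F) := inferInstance
  refine Finite.surjective_of_injective (fun v w e => ?_) a
  by_contra hne
  obtain ⟨x, hx⟩ := (hf.nondegenerate _ (sub_ne_zero.mpr hne)).1
  exact hx (by rw [u_sub_right hf, ← dual_dot hf, ← dual_dot hf, e, sub_self])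

/-- The transvection `x ↦ x + f(x,w) v` lies in `H`. -/
def Root (f : (ι → F) → (ι → F) → F) (H : Subgroup (GL ι F)) (v w : ι → F) : Prop :=
  f v w = 0 ∧ ∀ h : dual f w ⬝ᵥ v = 0, Tr v (dual f w) h ∈ H

variable {H : Subgroup (GL ι F)}
  (hM : Cfsg.Geo.similarityGroup f ⊓ Cfsg.Geo.specialLinear ι F ≤ H)

theorem dual_dot_zero {v w : ι → F} (h : f v w = 0) : dual f w ⬝ᵥ v = 0 := by rw [dual_dot hf, h]

theorem dual_add (a b : ι → F) : dual f (a + b) = dual f a + dual f b :=
  funext fun _ => u_add_right hf _ _ _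

theorem dual_smul (c : F) (a : ι → F) : dual f (c • a) = σ c • dual f a :=
  funext fun _ => u_smul_right hf _ _ _

theorem root_add {v a b : ι → F} (ha : Root f H v a) (hb : Root f H v b) : Root f H v (a + b) := by
  refine ⟨by rw [u_add_right hf, ha.1, hb.1, add_zero], fun h => ?_⟩
  have h1 := H.mul_mem (ha.2 (dual_dot_zero hf ha.1)) (hb.2 (dual_dot_zero hf hb.1))
  rw [Tr_mul] at h1
  convert h1 using 1
  exact gl_ext fun x => by rw [Tr_mulVec, Tr_mulVec, dual_add hf]

theorem root_neg {v a : ι → F} (ha : Root f H v a) : Root f H v (-a) := by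
  refine ⟨by rw [u_neg_right hf, ha.1, neg_zero], fun h => ?_⟩
  convert H.inv_mem (ha.2 (dual_dot_zero hf ha.1)) using 1
  refine eq_inv_of_mul_eq_one_left (gl_ext fun x => ?_)
  rw [Tr_mul, Tr_mulVec, ← dual_add hf, neg_add_cancel, dual_dot hf, u_zero_right hf, zero_smul,
    add_zero, Units.val_one, one_mulVec]

theorem root_scale {v w : ι → F} {s : F} (hs : s ≠ 0) (h : Root f H v w) :
    Root f H (s • v) (σ s⁻¹ • w) := by
  refine ⟨by rw [hf.smul_left, u_smul_right hf, h.1, mul_zero, mul_zero], fun hd => ?_⟩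
  convert h.2 (dual_dot_zero hf h.1) using 1
  refine gl_ext fun x => ?_
  rw [Tr_mulVec, Tr_mulVec, dual_smul hf, hf.involutive, smul_dotProduct, smul_smul, smul_eq_mul]
  congr 2
  field_simp

theorem skew_transvection_mem {v : ι → F} (hv : f v v = 0) {c : F} (hc : c + σ c = 0)
    (h : dual f (c • v) ⬝ᵥ v = 0) :
    Tr v (dual f (c • v)) h ∈ Cfsg.Geo.similarityGroup f ⊓ Cfsg.Geo.specialLinear ι F := by
  refine ⟨⟨1, fun a b => ?_⟩, Tr_mem_SL _ _ _⟩
  rw [Tr_mulVec, Tr_mulVec, dual_dot hf, dual_dot hf, u_smul_right hf, u_smul_right hf, hf.add_left,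
    u_add_right hf, u_add_right hf, hf.smul_left, hf.smul_left, u_smul_right hf, u_smul_right hf, hv,
    map_mul, hf.involutive, ← hf.herm, Units.val_one]
  linear_combination (f a v * f v b) * hc

include hM

theorem root_self {v : ι → F} (hv : f v v = 0) {c : F} (hc : c + σ c = 0) : Root f H v (c • v) :=
  ⟨by rw [u_smul_right hf, hv, mul_zero], fun h => hM (skew_transvection_mem hf hv hc h)⟩

/-- Conjugation by a unitary transvection. -/
theorem root_conj {v w x : ι → F} (hR : Root f H v w) (hx : f x x = 0) {c : F} (hc : c + σ c = 0) :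
    Root f H (v + (c * f v x) • x) (w + (c * f w x) • x) := by
  have hc' : σ c + σ (σ c) = 0 := by rw [hf.involutive, add_comm]; exact hc
  have hd : dual f (σ c • x) ⬝ᵥ x = 0 := dual_dot_zero hf (by rw [u_smul_right hf, hx, mul_zero])
  obtain ⟨T, hT⟩ : ∃ T, T = Tr x (dual f (σ c • x)) hd := ⟨_, rfl⟩
  have hTv : ∀ y, (T : Matrix ι ι F) *ᵥ y = y + (c * f y x) • x := fun y => by
    rw [hT, Tr_mulVec, dual_dot hf, u_smul_right hf, hf.involutive]
  have hsim := skew_transvection_mem hf hx hc' hd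
  rw [← hT] at hsim
  have hiso : ∀ a b, f ((T : Matrix ι ι F) *ᵥ a) ((T : Matrix ι ι F) *ᵥ b) = f a b := fun a b => by
    rw [hTv, hTv, hf.add_left, u_add_right hf, u_add_right hf, hf.smul_left, hf.smul_left,
      u_smul_right hf, u_smul_right hf, hx, map_mul, ← hf.herm]
    linear_combination (f a x * f x b) * hc
  rw [← hTv, ← hTv]
  refine ⟨by rw [hiso]; exact hR.1, fun h => ?_⟩
  have h1 := H.mul_mem (H.mul_mem (hM hsim) (hR.2 (dual_dot_zero hf hR.1))) (H.inv_mem (hM hsim))
  rw [conj_Tr] at h1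
  convert h1 using 1
  refine gl_ext fun y => ?_
  rw [Tr_mulVec, Tr_mulVec, ← dotProduct_mulVec, dual_dot hf, dual_dot hf]
  congr 2
  conv_lhs => rw [show y = (T : Matrix ι ι F) *ᵥ (((T⁻¹ : GL ι F) : Matrix ι ι F) *ᵥ y) by
    rw [mulVec_mulVec, ← Units.val_mul, mul_inv_cancel, Units.val_one, one_mulVec]]
  rw [hiso]

/-- In four dimensions a norm one scalar on a hyperbolic plane moves the directions. -/
theorem plane_move {v w x y : ι → F} (hcard : Fintype.card ι = 4) (hvx : f v x = 0) (hvy : f v y = 0)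
    (hx : f x x = 0) (hy : f y y = 0) (hyx : f y x = 1) {μ z : F} (hμ : σ μ * μ = 1) (hz : z * z * μ = 1)
    (hR : Root f H v w) : Root f H v (w + (μ - 1) • (f w y • x + f w x • y)) := by
  have hxy : f x y = 1 := by rw [hf.herm, hyx, map_one]
  have hz0 : z ≠ 0 := fun e => one_ne_zero (by rw [← hz, e]; ring)
  obtain ⟨A, hA⟩ : ∃ A : Matrix ι (Fin 2) F, A = Matrix.of fun i j => (μ - 1) * (![x, y] j) i := ⟨_, rfl⟩
  obtain ⟨B, hB⟩ : ∃ B : Matrix (Fin 2) ι F, B = Matrix.of fun j i => (![dual f y, dual f x] j) i := ⟨_, rfl⟩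
  have hBA : B * A = (μ - 1) • (1 : Matrix (Fin 2) (Fin 2) F) := by
    have e : ∀ u b : ι → F, ∑ i, dual f b i * ((μ - 1) * u i) = (μ - 1) * f u b := fun u b => by
      rw [← dual_dot hf, dotProduct, Finset.mul_sum]
      exact Finset.sum_congr rfl fun i _ => by ring
    ext j k
    rw [hA, hB, Matrix.mul_apply]
    simp only [Matrix.of_apply]
    fin_cases j <;> fin_cases k <;> simp [e, hx, hy, hxy, hyx]
  obtain ⟨M, hMdef⟩ : ∃ M : Matrix ι ι F, M = z • (1 + A * B) := ⟨_, rfl⟩
  have hdet : M.det = 1 := by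
    rw [hMdef, det_smul, det_one_add_mul_comm, hBA, hcard,
      show (1 : Matrix (Fin 2) (Fin 2) F) + (μ - 1) • (1 : Matrix (Fin 2) (Fin 2) F) =
        μ • (1 : Matrix (Fin 2) (Fin 2) F) by module, det_smul, det_one, Fintype.card_fin]
    linear_combination (z * z * μ + 1) * hz
  obtain ⟨g, hg⟩ : ∃ g, g = Matrix.GeneralLinearGroup.mkOfDetNeZero M (by rw [hdet]; exact one_ne_zero) :=
    ⟨_, rfl⟩
  obtain ⟨P, hP⟩ : ∃ P : (ι → F) → ι → F, ∀ a, P a = f a y • x + f a x • y := ⟨_, fun _ => rfl⟩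
  have hgv : ∀ a : ι → F, (g : Matrix ι ι F) *ᵥ a = z • (a + (μ - 1) • P a) := by
    intro a
    rw [hg]
    show M *ᵥ a = _
    rw [hMdef, smul_mulVec, add_mulVec, one_mulVec, ← mulVec_mulVec, hP]
    congr 2
    funext i
    simp only [hA, hB, mulVec, dotProduct, Matrix.of_apply, Fin.sum_univ_two, Pi.smul_apply, Pi.add_apply,
      smul_eq_mul, Matrix.cons_val_zero, Matrix.cons_val_one]
    rw [← dual_dot hf y a, ← dual_dot hf x a, dotProduct, dotProduct]
    ring
  have hff : ∀ a b, f ((g : Matrix ι ι F) *ᵥ a) ((g : Matrix ι ι F) *ᵥ b) = (z * σ z) * f a b := by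
    intro a b
    rw [hgv, hgv, hP, hP]
    simp only [hf.smul_left, hf.add_left, u_add_right hf, u_smul_right hf, smul_add, smul_smul, map_sub, map_one,
      map_mul, hx, hy, hxy, hyx, ← hf.herm]
    linear_combination (z * σ z) * (f a y * f x b + f a x * f y b) * hμ
  have hm : z * σ z ≠ 0 := mul_ne_zero hz0 ((map_ne_zero σ).mpr hz0)
  have hgS : g ∈ Cfsg.Geo.similarityGroup f ⊓ Cfsg.Geo.specialLinear ι F := by
    refine ⟨⟨Units.mk0 _ hm, fun a b => by rw [Units.val_mk0]; exact hff a b⟩, ?_⟩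
    show Matrix.GeneralLinearGroup.det g = 1
    exact Units.ext (by rw [hg]; exact hdet)
  obtain ⟨w', hw'⟩ : ∃ w', w' = w + (μ - 1) • P w := ⟨_, rfl⟩
  have hgw : ∀ a, f a w = (z * σ z)⁻¹ * (σ z * f ((g : Matrix ι ι F) *ᵥ a) w') := fun a => by
    have h1 := hff a w
    rw [hgv w, ← hw', u_smul_right hf] at h1
    rw [h1, inv_mul_cancel_left₀ hm]
  have hgvv : (g : Matrix ι ι F) *ᵥ v = z • v := by
    rw [hgv, hP, hvx, hvy]; module
  have hvw' : f v w' = 0 := by
    rw [hw', hP, u_add_right hf, u_smul_right hf, u_add_right hf, u_smul_right hf, u_smul_right hf, hvx, hvy, hR.1]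
    ring
  rw [← hP, ← hw']
  refine ⟨hvw', fun h => ?_⟩
  have h1 := H.mul_mem (H.mul_mem (hM hgS) (hR.2 (dual_dot_zero hf hR.1))) (H.inv_mem (hM hgS))
  rw [conj_Tr] at h1
  convert h1 using 1
  refine gl_ext fun a => ?_
  rw [Tr_mulVec, Tr_mulVec, ← dotProduct_mulVec, dual_dot hf, dual_dot hf, hgvv, smul_smul, hgw,
    mulVec_mulVec, ← Units.val_mul, mul_inv_cancel, Units.val_one, one_mulVec]
  congr 2
  have : σ z ≠ 0 := (map_ne_zero σ).mpr hz0
  field_simp

/-- In four dimensions a direction gives a whole line of directions. -/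
theorem line_of_generic_four {v w x : ι → F} (hcard : Fintype.card ι = 4) (hR : Root f H v w)
    (hx : f x x = 0) (hvx : f v x = 0) (hwx : f w x ≠ 0) (a : F) : Root f H v (a • x) := by
  obtain ⟨δ, hδ0, hδ⟩ := exists_skew hf
  obtain ⟨μ, z, hμ1, hμ2, hz⟩ := exists_norm_one_square hf
  have hmove : ∀ c : F, c + σ c = 0 → Root f H v ((c * f w x) • x) := by
    intro c hc
    have h1 := root_conj hf hM hR hx hc
    rw [hvx, mul_zero, zero_smul, add_zero] at h1
    have h2 := root_add hf h1 (root_neg hf hR)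
    rwa [show w + (c * f w x) • x + -w = (c * f w x) • x by abel] at h2
  obtain ⟨r, hrv, hxr⟩ := exists_sep hf (v := v) (w := x) (fun c e => hwx (by
    rw [e, u_smul_right hf, u_symm hf hR.1, mul_zero]))
  obtain ⟨t, ht⟩ := exists_fill hf hx (x := r) (fun e => hxr (u_symm hf e))
  have hr1 : f (r + t • x) x ≠ 0 := by
    rw [hf.add_left, hf.smul_left, hx, mul_zero, add_zero]; exact fun e => hxr (u_symm hf e)
  obtain ⟨y, hy⟩ : ∃ y, y = (f (r + t • x) x)⁻¹ • (r + t • x) := ⟨_, rfl⟩
  have hyy : f y y = 0 := by rw [hy, hf.smul_left, u_smul_right hf, ht, mul_zero, mul_zero]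
  have hvy : f v y = 0 := by
    rw [hy, u_smul_right hf, u_add_right hf, u_smul_right hf, hrv, hvx, mul_zero, add_zero, mul_zero]
  have hyx : f y x = 1 := by rw [hy, hf.smul_left, inv_mul_cancel₀ hr1]
  obtain ⟨c, d, hc, hd, hcd⟩ := exists_two_skew hf hμ2 hδ0 hδ (a / f w x)
  have h1 := plane_move hf hM hcard hvx hvy hx hyy hyx hμ1 hz (hmove d hd)
  have h2 := root_add hf (hmove c hc) h1
  rw [hf.smul_left, hf.smul_left, hx, mul_zero, zero_smul, add_zero,
    show f x y = 1 by rw [hf.herm, hyx, map_one], mul_one] at h2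
  convert h2 using 1
  rw [smul_smul, ← add_smul, ← add_smul]
  congr 1
  rw [eq_div_iff hwx] at hcd
  linear_combination -hcd

variable (hn : 4 ≤ Fintype.card ι) (hn5 : Fintype.card ι ≠ 5)
include hn hn5

/-- A pair with isotropic centre and a new direction. -/
theorem generic_of_pair {v w : ι → F} (hv : v ≠ 0) (hw : w ≠ 0) (hne : f v v ≠ 0 ∨ ∀ c : F, w ≠ c • v)
    (hR : Root f H v w) :
    ∃ x y, x ≠ 0 ∧ f x x = 0 ∧ Root f H x y ∧ ∀ c : F, y ≠ c • x := by
  have hvw : ∀ c : F, v ≠ c • w := by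
    intro c e
    have hc : c ≠ 0 := fun h => hv (by rw [e, h, zero_smul])
    have hwc : w = c⁻¹ • v := by rw [e, inv_smul_smul₀ hc]
    rcases hne with h | h
    · refine h ?_
      have h0 := hR.1
      rw [hwc, u_smul_right hf] at h0
      exact (mul_eq_zero.mp h0).resolve_left ((map_ne_zero σ).mpr (inv_ne_zero hc))
    · exact h _ hwc
  obtain ⟨a, haw, hva⟩ := exists_sep hf hvw
  obtain ⟨x, hx, hxw, hxv⟩ := exists_isotropic_ne hf ![w] (exists_perp_pair hf _ (by omega)) (u := a) (a := v)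
    (fun i => by fin_cases i; exact u_symm hf haw) (fun e => hva (u_symm hf e))
  have hxw : f x w = 0 := hxw 0
  have hvx : f v x ≠ 0 := fun e => hxv (u_symm hf e)
  have hx0 : x ≠ 0 := fun e => hxv (by rw [e, u_zero_left hf])
  obtain ⟨δ, hδ0, hδ⟩ := exists_skew hf
  have hδ' : σ δ + σ (σ δ) = 0 := by rw [hf.involutive, add_comm]; exact hδ
  have hd : dual f (σ δ • x) ⬝ᵥ x = 0 := dual_dot_zero hf (by rw [u_smul_right hf, hx, mul_zero])
  set A := Tr v (dual f w) (dual_dot_zero hf hR.1) with hA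
  have hAH : A ∈ H := hR.2 _
  have hBH : Tr x (dual f (σ δ • x)) hd ∈ H := hM (skew_transvection_mem hf hx hδ' hd)
  have hAx : (A : Matrix ι ι F) *ᵥ x = x := by
    rw [hA, Tr_mulVec, dual_dot hf, hxw, zero_smul, add_zero]
  obtain ⟨y, hy⟩ := dual_surj hf (dual f (σ δ • x) ᵥ* ((A⁻¹ : GL ι F) : Matrix ι ι F))
  have h1 := H.mul_mem (H.mul_mem hAH hBH) (H.inv_mem hAH)
  rw [conj_Tr] at h1
  have hyx : f x y = 0 := by
    rw [← dual_dot hf, hy, ← dotProduct_mulVec]
    conv_lhs => arg 2; arg 2; rw [← hAx]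
    rw [mulVec_mulVec, ← Units.val_mul, inv_mul_cancel, Units.val_one, one_mulVec, dual_dot hf,
      u_smul_right hf, hx, mul_zero]
  refine ⟨x, y, hx0, hx, ⟨hyx, fun h => ?_⟩, fun c e => ?_⟩
  · convert h1 using 1
    refine gl_ext fun z => ?_
    rw [Tr_mulVec, Tr_mulVec, hy, hAx]
  · -- the new direction is visible on `A a`, for `a` with `f a x = 0`
    have key : ∀ z, f ((A : Matrix ι ι F) *ᵥ z) y = δ * f z x := fun z => by
      rw [← dual_dot hf, hy, ← dotProduct_mulVec, mulVec_mulVec, ← Units.val_mul, inv_mul_cancel,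
        Units.val_one, one_mulVec, dual_dot hf, u_smul_right hf, hf.involutive]
    have hwx : ∀ d : F, w ≠ d • x := by
      intro d ed
      have h0 := hR.1
      rw [ed, u_smul_right hf] at h0
      rcases mul_eq_zero.mp h0 with h2 | h2
      · exact hw (by rw [ed, (map_eq_zero_iff σ σ.injective).mp h2, zero_smul])
      · exact hvx h2
    obtain ⟨b, hb1, hb2⟩ := exists_sep hf hwx
    have h2 := key b
    rw [e, u_smul_right hf, hA, Tr_mulVec, dual_dot hf, hf.add_left, hf.smul_left,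
      u_symm hf hb1] at h2
    have hvxb : σ c * (f b w * f v x) = 0 := by linear_combination h2
    have hc : σ c = 0 := (mul_eq_zero.mp hvxb).resolve_right
      (mul_ne_zero (fun e => hb2 (u_symm hf e)) hvx)
    obtain ⟨z, hz⟩ := exists_dual_left hf hx0
    have h3 := key z
    rw [e, u_smul_right hf, hc, zero_mul] at h3
    exact (mul_ne_zero hδ0 fun e => hz (u_symm hf e)) h3.symm

/-- An element which is not a similitude gives a new direction. -/
theorem generic_of_not_similarity {g : GL ι F} (hgH : g ∈ H)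
    (hg : g ∉ Cfsg.Geo.similarityGroup f) :
    ∃ x y, x ≠ 0 ∧ f x x = 0 ∧ Root f H x y ∧ ∀ c : F, y ≠ c • x := by
  obtain ⟨δ, hδ0, hδ⟩ := exists_skew hf
  by_contra hno
  have hmul : ∀ u, u ≠ 0 → f u u = 0 → ∃ m : F,
      ∀ x, f ((g : Matrix ι ι F) *ᵥ x) ((g : Matrix ι ι F) *ᵥ u) = m * f x u := by
    intro u hu0 hu
    have hδ' : σ δ + σ (σ δ) = 0 := by rw [hf.involutive, add_comm]; exact hδ
    have hd : dual f (σ δ • u) ⬝ᵥ u = 0 := dual_dot_zero hf (by rw [u_smul_right hf, hu, mul_zero])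
    obtain ⟨w, hw⟩ := dual_surj hf (dual f (σ δ • u) ᵥ* ((g⁻¹ : GL ι F) : Matrix ι ι F))
    obtain ⟨v, hv⟩ : ∃ v, v = (g : Matrix ι ι F) *ᵥ u := ⟨_, rfl⟩
    have hv0 : v ≠ 0 := fun e => hu0 (by
      have h2 := congrArg (((g⁻¹ : GL ι F) : Matrix ι ι F) *ᵥ ·) (hv.symm.trans e)
      simpa [mulVec_mulVec] using h2)
    have key : ∀ x, f ((g : Matrix ι ι F) *ᵥ x) w = δ * f x u := fun x => by
      rw [← dual_dot hf, hw, ← dotProduct_mulVec, mulVec_mulVec, ← Units.val_mul, inv_mul_cancel,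
        Units.val_one, one_mulVec, dual_dot hf, u_smul_right hf, hf.involutive]
    have hR : Root f H v w := by
      refine ⟨by rw [hv, key, hu, mul_zero], fun h => ?_⟩
      have h1 := H.mul_mem (H.mul_mem hgH (hM (skew_transvection_mem hf hu hδ' hd))) (H.inv_mem hgH)
      rw [conj_Tr] at h1
      convert h1 using 1
      refine gl_ext fun z => ?_
      rw [Tr_mulVec, Tr_mulVec, hw, hv]
    obtain ⟨x₀, hx₀⟩ := exists_dual_left hf hu0
    have hx₀' : f x₀ u ≠ 0 := fun e => hx₀ (u_symm hf e)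
    have hw0 : w ≠ 0 := fun e => by
      have h2 := key x₀
      rw [e, u_zero_right hf] at h2
      exact mul_ne_zero hδ0 hx₀' h2.symm
    by_cases hne : f v v ≠ 0 ∨ ∀ c : F, w ≠ c • v
    · exact absurd (generic_of_pair hf hM hn hn5 hv0 hw0 hne hR) hno
    push Not at hne
    obtain ⟨-, d, hd'⟩ := hne
    have hd0 : σ d ≠ 0 := (map_ne_zero σ).mpr fun e => hw0 (by rw [hd', e, zero_smul])
    refine ⟨δ / σ d, fun x => ?_⟩
    have h2 := key x
    rw [hd', u_smul_right hf, hv] at h2
    rw [div_mul_eq_mul_div, eq_div_iff hd0]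
    linear_combination h2
  choose! m hm using hmul
  have hpair : ∀ a b, a ≠ 0 → f a a = 0 → b ≠ 0 → f b b = 0 → f a b ≠ 0 → m b = σ (m a) := by
    intro a b ha0 ha hb0 hb hab
    have h1 := hm b hb0 hb a
    rw [hf.herm, hm a ha0 ha b, map_mul, ← hf.herm] at h1
    exact (mul_right_cancel₀ hab h1).symm
  obtain ⟨e, e', he, he', hee', -, -⟩ := exists_perp_pair hf (![] : Fin 0 → ι → F) (by omega)
  have he0 : e ≠ 0 := fun h => hee' (by rw [h, u_zero_left hf])
  have he'0 : e' ≠ 0 := fun h => hee' (by rw [h, u_zero_right hf])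
  have hconst : ∀ a, a ≠ 0 → f a a = 0 → m a = m e := by
    intro a ha0 ha
    obtain ⟨z, hz, haz, hez⟩ := exists_common hf ha0 ha he0 he
    have hz0 : z ≠ 0 := fun h => haz (by rw [h, u_zero_right hf])
    have h1 := hpair a z ha0 ha hz0 hz haz
    rw [hpair e z he0 he hz0 hz hez] at h1
    exact (σ.injective h1).symm
  have hσm : σ (m e) = m e := by rw [← hpair e e' he0 he he'0 he' hee', hconst e' he'0 he']
  have hall : ∀ x y, f ((g : Matrix ι ι F) *ᵥ x) ((g : Matrix ι ι F) *ᵥ y) = m e * f x y := by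
    intro x y
    refine perp_induction hf (![] : Fin 0 → ι → F) (exists_perp_pair hf _ (by omega))
      (P := fun y => f ((g : Matrix ι ι F) *ᵥ x) ((g : Matrix ι ι F) *ᵥ y) = m e * f x y)
      (fun a b ha hb => by rw [mulVec_add, u_add_right hf, u_add_right hf, ha, hb, mul_add])
      (fun z hz _ => ?_) (fun i => i.elim0)
    rcases eq_or_ne z 0 with rfl | hz0
    · rw [mulVec_zero, u_zero_right hf, u_zero_right hf, mul_zero]
    · rw [hm z hz0 hz x, hconst z hz0 hz]
  have hm0 : m e ≠ 0 := by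
    intro h0
    obtain ⟨x, hx⟩ := exists_dual_left hf (v := (g : Matrix ι ι F) *ᵥ e) (fun h => he0 (by
      have h2 := congrArg (((g⁻¹ : GL ι F) : Matrix ι ι F) *ᵥ ·) h
      simpa [mulVec_mulVec] using h2))
    refine hx ?_
    have h2 := hall e (((g⁻¹ : GL ι F) : Matrix ι ι F) *ᵥ x)
    rwa [mulVec_mulVec, ← Units.val_mul, mul_inv_cancel, Units.val_one, one_mulVec, h0, zero_mul] at h2
  exact hg ⟨Units.mk0 _ hm0, fun a b => by rw [Units.val_mk0]; exact hall a b⟩

/-- A direction gives a whole line of directions. -/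
theorem line_of_generic {v w x : ι → F} (hv : f v v = 0) (hR : Root f H v w) (hw : ∀ c : F, w ≠ c • v)
    (hx : f x x = 0) (hvx : f v x = 0) (hwx : f w x ≠ 0) (a : F) : Root f H v (a • x) := by
  by_cases h4 : Fintype.card ι = 4
  · exact line_of_generic_four hf hM h4 hR hx hvx hwx a
  have hn6 : 6 ≤ Fintype.card ι := by omega
  obtain ⟨δ, hδ0, hδ⟩ := exists_skew hf
  -- the moves along an isotropic vector orthogonal to the centre
  have move : ∀ {w' x' : ι → F}, Root f H v w' → f x' x' = 0 → f v x' = 0 → ∀ c : F, c + σ c = 0 →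
      Root f H v ((c * f w' x') • x') := by
    intro w' x' hw' hx' hvx' c hc
    have h1 := root_conj hf hM hw' hx' hc
    rw [hvx', mul_zero, zero_smul, add_zero] at h1
    have h2 := root_add hf h1 (root_neg hf hw')
    rwa [show w' + (c * f w' x') • x' + -w' = (c * f w' x') • x' by abel] at h2
  -- a partner of `x` moving the direction out of the line
  obtain ⟨y, hy, hvy, hxy, hspan⟩ : ∃ y, f y y = 0 ∧ f v y = 0 ∧ f y x = 1 ∧
      ∀ a b c : F, w ≠ a • v + b • x + c • y := by
    have hwne : w ≠ 0 := fun e => hwx (by rw [e, u_zero_left hf])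
    obtain ⟨r, hrv, hxr⟩ := exists_sep hf (v := v) (w := x) (fun c e => hwx (by
      rw [e, u_smul_right hf, u_symm hf hR.1, mul_zero]))
    obtain ⟨t, ht⟩ := exists_fill hf hx (x := r) (fun e => hxr (u_symm hf e))
    obtain ⟨y₀, hy₀⟩ : ∃ y₀, y₀ = (f (r + t • x) x)⁻¹ • (r + t • x) := ⟨_, rfl⟩
    have hr1 : f (r + t • x) x ≠ 0 := by
      rw [hf.add_left, hf.smul_left, hx, mul_zero, add_zero]; exact fun e => hxr (u_symm hf e)
    have h0 : f y₀ y₀ = 0 := by rw [hy₀, hf.smul_left, u_smul_right hf, ht, mul_zero, mul_zero]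
    have h0v : f v y₀ = 0 := by
      rw [hy₀, u_smul_right hf, u_add_right hf, u_smul_right hf, hrv, hvx, mul_zero, add_zero, mul_zero]
    have h0x : f y₀ x = 1 := by rw [hy₀, hf.smul_left, inv_mul_cancel₀ hr1]
    by_cases hs : ∀ a b c : F, w ≠ a • v + b • x + c • y₀
    · exact ⟨y₀, h0, h0v, h0x, hs⟩
    push Not at hs
    obtain ⟨a₀, b₀, c₀, hw₀⟩ := hs
    have hc₀ : c₀ ≠ 0 := by
      intro e
      apply hwx
      rw [hw₀, e, hf.add_left, hf.add_left, hf.smul_left, hf.smul_left, hf.smul_left, hvx, hx]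
      ring
    obtain ⟨p, q, hpp, -, hpq, hpc, hqc⟩ :=
      exists_perp_pair_three hf hv hvx h0v hx h0 (by rw [h0x]; exact one_ne_zero) hn6
    have hpv : f p v = 0 := hpc 0
    have hpx : f p x = 0 := hpc 1
    have hpy : f p y₀ = 0 := hpc 2
    refine ⟨y₀ + p, ?_, by rw [u_add_right hf, h0v, u_symm hf hpv, add_zero],
      by rw [hf.add_left, h0x, hpx, add_zero], fun a b c e => ?_⟩
    · rw [hf.add_left, u_add_right hf, u_add_right hf, h0, hpp, hpy, u_symm hf hpy]; ring
    have hqv : f q v = 0 := hqc 0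
    have hqx : f q x = 0 := hqc 1
    have hqy : f q y₀ = 0 := hqc 2
    have e1 := congrArg (fun r => f r q) e
    have e2 := congrArg (fun r => f r q) hw₀
    simp only [hf.add_left, hf.smul_left, u_symm hf hqv, u_symm hf hqx, u_symm hf hqy, mul_zero,
      add_zero, zero_add] at e1 e2
    rw [e2] at e1
    have hc : c = 0 := (mul_eq_zero.mp e1.symm).resolve_right hpq
    have e3 := congrArg (fun r => f r x) e
    have e4 := congrArg (fun r => f r x) hw₀
    simp only [hf.add_left, hf.smul_left, hvx, hx, hc, h0x, mul_zero, mul_one, zero_mul, add_zero,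
      zero_add] at e3 e4
    exact hc₀ (e4.symm.trans e3)
  -- an isotropic vector seeing the direction
  obtain ⟨z, hz, hzv, hzx, hzy, hzw⟩ : ∃ z, f z z = 0 ∧ f z v = 0 ∧ f z x = 0 ∧ f z y = 0 ∧
      f z w ≠ 0 := by
    set w' := w - f w y • x - f w x • y with hw'
    have hxy' : f x y = 1 := by rw [hf.herm, hxy, map_one]
    have e1 : f w' x = 0 := by
      rw [hw', u_sub_left hf, u_sub_left hf, hf.smul_left, hf.smul_left, hx, hxy]; ring
    have e2 : f w' y = 0 := by
      rw [hw', u_sub_left hf, u_sub_left hf, hf.smul_left, hf.smul_left, hy, hxy']; ring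
    obtain ⟨r, hr1, hr2⟩ := exists_sep hf (v := v) (w := w') (fun c e => hspan c (f w y) (f w x) (by
      rw [← e, hw']; abel))
    obtain ⟨r', hr'⟩ : ∃ r', r' = r - f r y • x - f r x • y := ⟨_, rfl⟩
    have d1 : f r' v = 0 := by
      rw [hr', u_sub_left hf, u_sub_left hf, hf.smul_left, hf.smul_left, u_symm hf hr1,
        u_symm hf hvx, u_symm hf hvy]; ring
    have d2 : f r' x = 0 := by
      rw [hr', u_sub_left hf, u_sub_left hf, hf.smul_left, hf.smul_left, hx, hxy]; ring
    have d3 : f r' y = 0 := by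
      rw [hr', u_sub_left hf, u_sub_left hf, hf.smul_left, hf.smul_left, hy, hxy']; ring
    have d4 : f r' w ≠ 0 := by
      intro e
      refine hr2 (u_symm hf ?_)
      have e3 : f r' w' = 0 := by
        rw [hw', u_sub_right hf, u_sub_right hf, u_smul_right hf, u_smul_right hf, d2, d3, e]; ring
      rw [hr', u_sub_left hf, u_sub_left hf, hf.smul_left, hf.smul_left, u_symm hf e1, u_symm hf e2] at e3
      linear_combination e3
    obtain ⟨z, hz, hzc, hzw⟩ := exists_isotropic_ne hf ![v, x, y]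
      (exists_perp_pair_three hf hv hvx hvy hx hy (by rw [hxy]; exact one_ne_zero) hn6) (u := r') (a := w)
      (fun i => by fin_cases i <;> assumption) d4
    exact ⟨z, hz, hzc 0, hzc 1, hzc 2, hzw⟩
  have hwz : f w z ≠ 0 := fun e => hzw (u_symm hf e)
  -- the move along `y + k z`, then along `x`
  obtain ⟨k, hk⟩ : ∃ k : F, f w (y + k • z) = a / (δ * δ) :=
    ⟨σ ((a / (δ * δ) - f w y) / f w z), by
      rw [u_add_right hf, u_smul_right hf, hf.involutive, div_mul_cancel₀ _ hwz]; ring⟩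
  have hy' : f (y + k • z) (y + k • z) = 0 := by
    rw [hf.add_left, u_add_right hf, u_add_right hf, hf.smul_left, hf.smul_left, u_smul_right hf,
      u_smul_right hf, hy, hz, hzy, u_symm hf hzy]; ring
  have hy'v : f v (y + k • z) = 0 := by
    rw [u_add_right hf, u_smul_right hf, hvy, u_symm hf hzv, mul_zero, add_zero]
  have h1 := move (move hR hy' hy'v δ hδ) hx hvx δ hδ
  rw [hf.smul_left, hk, hf.add_left, hf.smul_left, hxy, hzx] at h1
  convert h1 using 2
  field_simp
  ring

/-- All directions at an isotropic centre. -/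
theorem full_of_generic {v w : ι → F} (hv : f v v = 0) (hR : Root f H v w)
    (hw : ∀ c : F, w ≠ c • v) {u : ι → F} (hu : f v u = 0) : Root f H v u := by
  obtain ⟨r, hrv, hwr⟩ := exists_sep hf hw
  obtain ⟨x, hx, hxv, hxw⟩ := exists_isotropic_ne hf ![v] (exists_perp_pair hf _ (by omega)) (u := r) (a := w)
    (fun i => by fin_cases i; exact u_symm hf hrv) (fun e => hwr (u_symm hf e))
  have hxv : f x v = 0 := hxv 0
  have hwx : f w x ≠ 0 := fun e => hxw (u_symm hf e)
  have iso : ∀ y, f y y = 0 → f y v = 0 → Root f H v y := by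
    intro y hy hyv
    by_cases hwy : f w y = 0
    swap
    · simpa using line_of_generic hf hM hn hn5 hv hR hw hy (u_symm hf hyv) hwy 1
    by_cases hyx : f y x = 0
    · have h1 := line_of_generic hf hM hn hn5 hv hR hw (x := y + x)
        (by rw [hf.add_left, u_add_right hf, u_add_right hf, hy, hx, hyx, u_symm hf hyx]; ring)
        (by rw [u_add_right hf, u_symm hf hyv, u_symm hf hxv, add_zero])
        (by rwa [u_add_right hf, hwy, zero_add]) 1
      have h2 := line_of_generic hf hM hn hn5 hv hR hw hx (u_symm hf hxv) hwx 1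
      have h3 := root_add hf h1 (root_neg hf h2)
      rwa [one_smul, one_smul, add_neg_cancel_right] at h3
    · simpa using line_of_generic hf hM hn hn5 hv (line_of_generic hf hM hn hn5 hv hR hw hx (u_symm hf hxv) hwx 1)
        (fun c e => hyx (by
          rw [one_smul] at e
          rw [e, u_smul_right hf, hyv, mul_zero])) hy (u_symm hf hyv)
        (by rw [one_smul]; exact fun e => hyx (u_symm hf e)) 1
  exact perp_induction hf ![v] (exists_perp_pair hf _ (by omega)) (P := Root f H v) (fun a b => root_add hf)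
    (fun z hz hzc => iso z hz (hzc 0)) (fun i => by fin_cases i; exact u_symm hf hu)

/-- Fullness spreads over the isotropic vectors. -/
theorem full_move {v : ι → F} (hv : f v v = 0) (hfull : ∀ t, f v t = 0 → Root f H v t) {u : ι → F}
    (hu : f u u = 0) (hvu : f v u ≠ 0) {t : ι → F} (ht : f u t = 0) : Root f H u t := by
  obtain ⟨δ, hδ0, hδ⟩ := exists_skew hf
  have huv : f u v ≠ 0 := fun e => hvu (u_symm hf e)
  obtain ⟨a, ha⟩ : ∃ a, a = δ / f u v := ⟨_, rfl⟩
  have ha0 : a ≠ 0 := ha ▸ div_ne_zero hδ0 huv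
  obtain ⟨x, hx⟩ : ∃ x, x = a • u - v := ⟨_, rfl⟩
  have hσδ : σ δ = -δ := by linear_combination hδ
  have hvx : f v x = -δ := by
    rw [hx, u_sub_right hf, u_smul_right hf, hv, ha, map_div₀, ← hf.herm, div_mul_cancel₀ _ hvu, hσδ,
      sub_zero]
  have hxx : f x x = 0 := by
    rw [hx, u_sub_left hf, u_sub_right hf, u_sub_right hf, hf.smul_left, hf.smul_left, u_smul_right hf,
      u_smul_right hf, hu, hv, ha, map_div₀, ← hf.herm, div_mul_cancel₀ _ hvu, div_mul_cancel₀ _ huv, hσδ]
    ring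
  have hc : -δ⁻¹ + σ (-δ⁻¹) = 0 := by rw [map_neg, map_inv₀, hσδ, inv_neg]; ring
  have hvx1 : -δ⁻¹ * f v x = 1 := by rw [hvx]; field_simp
  -- the preimage of a direction at `a • u`
  have main : ∀ s, f (a • u) s = 0 → Root f H (a • u) s := by
    intro s hs
    have h0 : f v (s + (δ⁻¹ * f s x) • x) = 0 := by
      rw [u_add_right hf, u_smul_right hf, map_mul, map_inv₀, hσδ, ← hf.herm, hvx]
      have : f v s = -f x s := by
        have e : f (a • u) s = f x s + f v s := by rw [hx, u_sub_left hf]; ring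
        linear_combination hs - e
      rw [this]
      field_simp
      ring
    have h1 := root_conj hf hM (hfull _ h0) hxx hc
    rw [hvx1, one_smul, hf.add_left, hf.smul_left, hxx, mul_zero, add_zero,
      show v + x = a • u by rw [hx]; abel,
      show s + (δ⁻¹ * f s x) • x + (-δ⁻¹ * f s x) • x = s by module] at h1
    exact h1
  have h2 := root_scale hf (inv_ne_zero ha0) (main (σ a⁻¹ • t) (by
    rw [hf.smul_left, u_smul_right hf, ht, mul_zero, mul_zero]))
  rwa [smul_smul, inv_mul_cancel₀ ha0, one_smul, inv_inv, smul_smul, ← map_mul, mul_inv_cancel₀ ha0,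
    map_one, one_smul] at h2

omit hM in
/-- The similitudes in `SL` are maximal. -/
theorem isMaximalIn_similarity :
    Cfsg.Geo.IsMaximalIn (Cfsg.Geo.specialLinear ι F)
      (Cfsg.Geo.similarityGroup f ⊓ Cfsg.Geo.specialLinear ι F) := by
  obtain ⟨δ, hδ0, hδ⟩ := exists_skew hf
  obtain ⟨e, e', he, he', hee', -, -⟩ := exists_perp_pair hf (![] : Fin 0 → ι → F) (by omega)
  have he0 : e ≠ 0 := fun h => hee' (by rw [h, u_zero_left hf])
  refine ⟨lt_of_le_of_ne inf_le_right fun heq => ?_, fun H hMH hHS => ?_⟩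
  · obtain ⟨w, q, hw, -, hwq, hwe, hqe⟩ := exists_perp_pair hf ![e] (by omega)
    have hew : f e w = 0 := u_symm hf (hwe 0)
    have hqe0 : f q e = 0 := hqe 0
    obtain ⟨c, hc⟩ := (heq.ge (Tr_mem_SL e (dual f w) (dual_dot_zero hf hew))).1
    have key : ∀ a b : ι → F, f a b + σ (f b w) * f a e + f a w * f e b = (c : F) * f a b := fun a b => by
      rw [← hc, Tr_mulVec, Tr_mulVec, dual_dot hf, dual_dot hf, hf.add_left, u_add_right hf,
        u_add_right hf, hf.smul_left, hf.smul_left, u_smul_right hf, u_smul_right hf, he]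
      ring
    have h1 := key e e'
    rw [he, hew, mul_zero, zero_mul, add_zero, add_zero] at h1
    have hc1 : (c : F) = 1 := mul_right_cancel₀ hee' (h1.symm.trans (one_mul _).symm)
    have h2 := key q e'
    rw [hc1, one_mul, hqe0, mul_zero, add_zero] at h2
    exact mul_ne_zero (fun e => hwq (u_symm hf e)) hee' (by linear_combination h2)
  by_cases hle : H ≤ Cfsg.Geo.similarityGroup f
  · exact Or.inl (le_antisymm (le_inf hle hHS) hMH)
  right
  obtain ⟨g, hgH, hg⟩ := SetLike.not_le_iff_exists.mp hle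
  obtain ⟨v₀, w₀, hv₀0, hv₀, hR, hw₀⟩ := generic_of_not_similarity hf hMH hn hn5 hgH hg
  have hfull : ∀ v, v ≠ 0 → f v v = 0 → ∀ t, f v t = 0 → Root f H v t := by
    intro v hv0 hv t ht
    obtain ⟨z, hz, hz1, hz2⟩ := exists_common hf hv₀0 hv₀ hv0 hv
    exact full_move hf hMH hn hn5 hz (fun t ht => full_move hf hMH hn hn5 hv₀
      (fun t ht => full_of_generic hf hMH hn hn5 hv₀ hR hw₀ ht) hz hz1 ht) hv
      (fun e => hz2 (u_symm hf e)) ht
  refine eq_SL H hHS fun v a ha => ?_
  rcases eq_or_ne v 0 with rfl | hv0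
  · have : Tr (0 : ι → F) a ha = 1 := gl_ext fun x => by simp [Tr_mulVec]
    rw [this]; exact H.one_mem
  by_cases hv : f v v = 0
  · obtain ⟨w, rfl⟩ := dual_surj hf a
    exact (hfull v hv0 hv w (by rw [← dual_dot hf]; exact ha)).2 ha
  -- an anisotropic centre is a sum of two isotropic ones
  obtain ⟨p, hp, -, hpv⟩ := exists_isotropic_ne hf (![] : Fin 0 → ι → F) (exists_perp_pair hf _ (by omega)) (u := v) (a := v)
    (fun i => i.elim0) hv
  obtain ⟨t, ht⟩ := exists_fill hf hp (x := v) (fun e => hpv (u_symm hf e))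
  obtain ⟨u₂, hu₂⟩ : ∃ u₂, u₂ = v + t • p := ⟨_, rfl⟩
  obtain ⟨z₁, hz₁⟩ : ∃ z₁, z₁ = (-t) • p := ⟨_, rfl⟩
  have hz₁iso : f z₁ z₁ = 0 := by rw [hz₁, hf.smul_left, u_smul_right hf, hp, mul_zero, mul_zero]
  have hsum : z₁ + u₂ = v := by rw [hz₁, hu₂]; module
  rw [← hu₂] at ht
  have hind : ∀ d : F, z₁ ≠ d • u₂ := by
    intro d ed
    apply hv
    rw [← hsum, ed, show d • u₂ + u₂ = (d + 1) • u₂ by module, hf.smul_left, u_smul_right hf, ht, mul_zero, mul_zero]
  have hu₂0 : u₂ ≠ 0 := fun e0 => hv (by rw [← hsum, e0, add_zero, hz₁iso])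
  have hz₁0 : z₁ ≠ 0 := fun e0 => hind 0 (by rw [e0, zero_smul])
  obtain ⟨a₀, ha₁, ha₂⟩ := exists_sep hf hind
  obtain ⟨a₂, ha₂'⟩ : ∃ a₂, a₂ = σ (f z₁ a₀)⁻¹ • a₀ := ⟨_, rfl⟩
  have h21 : f u₂ a₂ = 0 := by rw [ha₂', u_smul_right hf, ha₁, mul_zero]
  have h22 : f z₁ a₂ = 1 := by rw [ha₂', u_smul_right hf, hf.involutive, inv_mul_cancel₀ ha₂]
  set k := Tr u₂ (dual f a₂) (dual_dot_zero hf h21) with hk
  have hkH : k ∈ H := (hfull u₂ hu₂0 ht a₂ h21).2 _
  have hkz : (k : Matrix ι ι F) *ᵥ z₁ = v := by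
    rw [hk, Tr_mulVec, dual_dot hf, h22, one_smul, hsum]
  obtain ⟨w, hw⟩ := dual_surj hf (a ᵥ* (k : Matrix ι ι F))
  have hd : dual f w ⬝ᵥ z₁ = 0 := by rw [hw, ← dotProduct_mulVec, hkz, ha]
  have h1 := H.mul_mem (H.mul_mem hkH ((hfull z₁ hz₁0 hz₁iso w (by rw [← dual_dot hf]; exact hd)).2 hd))
    (H.inv_mem hkH)
  rw [conj_Tr] at h1
  convert h1 using 1
  refine gl_ext fun x => ?_
  rw [Tr_mulVec, Tr_mulVec, hkz, hw, ← dotProduct_mulVec, ← dotProduct_mulVec, mulVec_mulVec,
    ← Units.val_mul, mul_inv_cancel, Units.val_one, one_mulVec]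

end Cfsg.Agent.Lib.FormMax.UnitarySL
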