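import Mathlib
import Cfsg.Agent.Lib.FormMax.OrthInSL

/-!
# Similitudes of a quadratic form in four variables, odd characteristic, are maximal in `SL`

The argument is the same for both Witt indices.

* A group `H` above the similitudes which contains a non-similitude `g` contains one with a
  singular vector sent to a singular vector: otherwise the translates of the set of singular
  vectors by the Eichler elements and `g` would be too many disjoint sets.
* Such an element gives a transvection with singular centre.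
* One such transvection gives all the transvections along singular lines, two of these along
  crossing lines give one with anisotropic axis, and the stabiliser of the centre spreads it.
-/

set_option autoImplicit false
set_option linter.unusedSectionVars false

namespace Cfsg.Agent.Lib.FormMax.OrthSL

open Matrix QuadraticMap
open Cfsg.Agent.Lib

variable {ι : Type} [Fintype ι] [DecidableEq ι] {F : Type*} [Field F]
  {Q : QuadraticForm F (ι → F)}

/-- A hyperbolic pair and an orthogonal basis of its complement. -/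
structure Frame (Q : QuadraticForm F (ι → F)) (u v a c : ι → F) : Prop where
  hu : Q u = 0
  hv : Q v = 0
  huv : polar ⇑Q u v = 1
  hua : polar ⇑Q u a = 0
  huc : polar ⇑Q u c = 0
  hva : polar ⇑Q v a = 0
  hvc : polar ⇑Q v c = 0
  hac : polar ⇑Q a c = 0
  ha : Q a ≠ 0
  hc : Q c ≠ 0

/-- A linear combination of four vectors. -/
def comb (u v a c : ι → F) (z : Fin 4 → F) : ι → F := z 0 • u + z 1 • v + z 2 • a + z 3 • c

namespace Frame

variable {u v a c : ι → F} (fr : Frame Q u v a c)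
include fr

theorem u_ne : u ≠ 0 := fun h => by simpa [h] using fr.huv

theorem polar_comb_u (z : Fin 4 → F) : polar ⇑Q u (comb u v a c z) = z 1 := by
  simp [comb, polar_add_right, polar_smul_right, Orth.polar_self_zero fr.hu, fr.huv, fr.hua, fr.huc]

theorem polar_comb_v (z : Fin 4 → F) : polar ⇑Q v (comb u v a c z) = z 0 := by
  simp [comb, polar_add_right, polar_smul_right, Orth.polar_self_zero fr.hv, polar_comm (⇑Q) v u,
    fr.huv, fr.hva, fr.hvc]

theorem polar_comb_a (z : Fin 4 → F) : polar ⇑Q a (comb u v a c z) = z 2 * (2 * Q a) := by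
  simp [comb, polar_add_right, polar_smul_right, polar_comm (⇑Q) a u, polar_comm (⇑Q) a v,
    fr.hua, fr.hva, fr.hac, Orth.polar_self_eq]

theorem polar_comb_c (z : Fin 4 → F) : polar ⇑Q c (comb u v a c z) = z 3 * (2 * Q c) := by
  simp [comb, polar_add_right, polar_smul_right, polar_comm (⇑Q) c u, polar_comm (⇑Q) c v,
    polar_comm (⇑Q) c a, fr.huc, fr.hvc, fr.hac, Orth.polar_self_eq]

theorem Q_comb (z : Fin 4 → F) :
    Q (comb u v a c z) = z 0 * z 1 + z 2 * z 2 * Q a + z 3 * z 3 * Q c := by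
  simp only [comb, QuadraticMap.map_add (⇑Q), QuadraticMap.map_smul, polar_add_left,
    polar_smul_left, polar_smul_right, fr.hu, fr.hv, fr.huv, fr.hua, fr.huc, fr.hva, fr.hvc,
    fr.hac, smul_eq_mul]
  ring

theorem linearIndependent (h2 : (2 : F) ≠ 0) : LinearIndependent F ![u, v, a, c] := by
  rw [Fintype.linearIndependent_iff]
  intro z hz
  have e : comb u v a c z = 0 := by
    rw [← hz, Fin.sum_univ_four]
    rfl
  have e0 := fr.polar_comb_v z
  have e1 := fr.polar_comb_u z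
  have e2 := fr.polar_comb_a z
  have e3 := fr.polar_comb_c z
  rw [e, polar_zero_right] at e0 e1 e2 e3
  intro i
  fin_cases i
  · exact e0.symm
  · exact e1.symm
  · exact (mul_eq_zero.mp e2.symm).resolve_right (mul_ne_zero h2 fr.ha)
  · exact (mul_eq_zero.mp e3.symm).resolve_right (mul_ne_zero h2 fr.hc)

theorem exists_comb (h2 : (2 : F) ≠ 0) (h4 : Fintype.card ι = 4) (x : ι → F) :
    ∃ z, comb u v a c z = x := by
  let b := basisOfLinearIndependentOfCardEqFinrank (fr.linearIndependent h2)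
    (by rw [Fintype.card_fin, Module.finrank_fintype_fun_eq_card, h4])
  refine ⟨⇑(b.repr x), ?_⟩
  conv_rhs => rw [← b.sum_repr x, Fin.sum_univ_four]
  simp [b, comb]

/-- An element of the similitudes of determinant one with a given matrix in the frame. -/
theorem exists_elem (h2 : (2 : F) ≠ 0) (h4 : Fintype.card ι = 4) (A : Matrix (Fin 4) (Fin 4) F)
    (hA : A.det = 1) (μ : Fˣ)
    (hq : ∀ z, Q (comb u v a c (A *ᵥ z)) = (μ : F) * Q (comb u v a c z)) :
    ∃ g ∈ Cfsg.Geo.quadSimilarityGroup ⇑Q ⊓ Cfsg.Geo.specialLinear ι F,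
      (∀ z, (g : Matrix ι ι F) *ᵥ comb u v a c z = comb u v a c (A *ᵥ z)) ∧
      ∀ x, Q ((g : Matrix ι ι F) *ᵥ x) = (μ : F) * Q x := by
  let b := basisOfLinearIndependentOfCardEqFinrank (fr.linearIndependent h2)
    (by rw [Fintype.card_fin, Module.finrank_fintype_fun_eq_card, h4])
  let φ := Matrix.toLin b b A
  have hdet : (LinearMap.toMatrix' φ).det = 1 := by
    rw [LinearMap.det_toMatrix', LinearMap.det_toLin, hA]
  let g : GL ι F := Matrix.GeneralLinearGroup.mkOfDetNeZero (LinearMap.toMatrix' φ)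
    (by rw [hdet]; exact one_ne_zero)
  have hg : ∀ x, (g : Matrix ι ι F) *ᵥ x = φ x := fun x => by
    show LinearMap.toMatrix' φ *ᵥ x = φ x
    rw [LinearMap.toMatrix'_mulVec]
  have hc : ∀ z, (g : Matrix ι ι F) *ᵥ comb u v a c z = comb u v a c (A *ᵥ z) := fun z => by
    have hb : ∀ i, φ (![u, v, a, c] i) = ∑ j, A j i • ![u, v, a, c] j := fun i => by
      have := Matrix.toLin_self b b A i
      simpa [φ, b] using this
    have h0 := hb 0
    have h1 := hb 1
    have h2' := hb 2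
    have h3 := hb 3
    simp only [Fin.sum_univ_four] at h0 h1 h2' h3
    simp only [Matrix.cons_val] at h0 h1 h2' h3
    rw [hg, comb, map_add, map_add, map_add, map_smul, map_smul, map_smul, map_smul, h0, h1, h2', h3]
    simp only [comb, mulVec, dotProduct, Fin.sum_univ_four]
    module
  have hQg : ∀ x, Q ((g : Matrix ι ι F) *ᵥ x) = (μ : F) * Q x := fun x => by
    obtain ⟨z, rfl⟩ := fr.exists_comb h2 h4 x
    rw [hc, hq]
  exact ⟨g, ⟨⟨μ, hQg⟩, Units.ext hdet⟩, hc, hQg⟩

/-- The diagonal isometry scaling the hyperbolic pair. -/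
theorem exists_torus (h2 : (2 : F) ≠ 0) (h4 : Fintype.card ι = 4) {t : F} (ht : t ≠ 0) :
    ∃ g ∈ Cfsg.Geo.quadSimilarityGroup ⇑Q ⊓ Cfsg.Geo.specialLinear ι F,
      (∀ x, Q ((g : Matrix ι ι F) *ᵥ x) = Q x) ∧ (g : Matrix ι ι F) *ᵥ u = t • u ∧
        (g : Matrix ι ι F) *ᵥ a = a ∧ (g : Matrix ι ι F) *ᵥ c = c := by
  obtain ⟨g, hgM, hg, hgQ⟩ := fr.exists_elem h2 h4 (diagonal ![t, t⁻¹, 1, 1])
    (by simp [det_diagonal, Fin.prod_univ_four, mul_inv_cancel₀ ht]) 1 fun z => by
      simp [fr.Q_comb, mulVec_diagonal]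
      field_simp
  refine ⟨g, hgM, fun x => by rw [hgQ, Units.val_one, one_mul], ?_, ?_, ?_⟩
  · simpa [comb, mulVec_diagonal] using hg ![1, 0, 0, 0]
  · simpa [comb, mulVec_diagonal] using hg ![0, 0, 1, 0]
  · simpa [comb, mulVec_diagonal] using hg ![0, 0, 0, 1]

end Frame

variable {H : Subgroup (GL ι F)}

/-- Conjugation by a similitude. -/
theorem root_conj_sim {g : GL ι F} (hgH : g ∈ H) {μ : Fˣ}
    (hg : ∀ y, Q ((g : Matrix ι ι F) *ᵥ y) = (μ : F) * Q y) {v w : ι → F} (h : Root Q H v w) :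
    Root Q H ((g : Matrix ι ι F) *ᵥ v) ((μ : F)⁻¹ • ((g : Matrix ι ι F) *ᵥ w)) := by
  have hp : ∀ x y, polar ⇑Q ((g : Matrix ι ι F) *ᵥ x) ((g : Matrix ι ι F) *ᵥ y) =
      (μ : F) * polar ⇑Q x y := fun x y => by
    simp only [QuadraticMap.polar, ← mulVec_add, hg]
    ring
  refine ⟨by rw [polar_smul_left, hp, h.1, mul_zero, smul_zero], fun hd => ?_⟩
  have h1 := H.mul_mem (H.mul_mem hgH (h.2 (by rw [dual_dot]; exact h.1))) (H.inv_mem hgH)
  rw [conj_Tr] at h1
  convert h1 using 1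
  refine gl_ext fun x => ?_
  rw [Tr_mulVec, Tr_mulVec, dual_dot, ← dotProduct_mulVec, dual_dot]
  conv_lhs => rw [← mulVec_inv g x, polar_smul_left, hp, smul_eq_mul,
    inv_mul_cancel_left₀ μ.ne_zero]
  rw [mulVec_inv]

variable (hQ : (QuadraticMap.polarBilin Q).Nondegenerate) (h2 : (2 : F) ≠ 0)
  (h4 : Fintype.card ι = 4)
include hQ h2 h4

/-- Two anisotropic-axis vectors extend to a frame. -/
theorem exists_frame {u a : ι → F} (hu0 : u ≠ 0) (hu : Q u = 0) (hua : polar ⇑Q u a = 0)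
    (ha : Q a ≠ 0) : ∃ v c, Frame Q u v a c := by
  obtain ⟨v₀, -, hv₀⟩ := Orth.exists_partner hQ hu0 hu
  have ha2 : 2 * Q a ≠ 0 := mul_ne_zero h2 ha
  set v₁ := v₀ - (polar ⇑Q a v₀ / (2 * Q a)) • a with hv₁
  have huv₁ : polar ⇑Q u v₁ = 1 := by simp [hv₁, polar_sub_right, polar_smul_right, hv₀, hua]
  have hav₁ : polar ⇑Q a v₁ = 0 := by
    rw [hv₁, polar_sub_right, polar_smul_right, Orth.polar_self_eq, smul_eq_mul,
      div_mul_cancel₀ _ ha2, sub_self]
  set v := v₁ + (-Q v₁) • u with hvdef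
  have huv : polar ⇑Q u v = 1 := by
    simp [hvdef, polar_add_right, polar_smul_right, huv₁, Orth.polar_self_zero hu]
  have hav : polar ⇑Q a v = 0 := by
    simp [hvdef, polar_add_right, polar_smul_right, hav₁, polar_comm (⇑Q) a u, hua]
  have hv : Q v = 0 := by
    rw [hvdef, QuadraticMap.map_add (⇑Q), QuadraticMap.map_smul, polar_smul_right, hu,
      polar_comm _ v₁ u, huv₁]
    simp
  obtain ⟨y, hy, z, hz, hyz⟩ := exists_pair_of_split hQ
    (ker_conds_ne_bot (Q := Q) ![u, v, a] (by omega)) fun t =>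
    ⟨t - polar ⇑Q v t • u - polar ⇑Q u t • v - (polar ⇑Q a t / (2 * Q a)) • a,
      mem_ker_conds.mpr fun i => by
        fin_cases i
        · simp [polar_sub_right, polar_smul_right, Orth.polar_self_zero hu, huv, hua]
        · simp [polar_sub_right, polar_smul_right, Orth.polar_self_zero hv, polar_comm (⇑Q) v u, huv,
            polar_comm (⇑Q) v a, hav]
        · simp [polar_sub_right, polar_smul_right, polar_comm (⇑Q) a u, hua, hav,
            Orth.polar_self_eq, div_mul_cancel₀ _ ha2],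
      fun y hy => by
        have h := mem_ker_conds.mp hy
        have h0 : polar ⇑Q y u = 0 := by rw [polar_comm]; exact h 0
        have h1 : polar ⇑Q y v = 0 := by rw [polar_comm]; exact h 1
        have h2 : polar ⇑Q y a = 0 := by rw [polar_comm]; exact h 2
        simp [polar_sub_right, polar_smul_right, h0, h1, h2]⟩
  obtain ⟨c, hc, hcQ⟩ : ∃ c ∈ (conds Q ![u, v, a]).ker, Q c ≠ 0 := by
    by_contra hcon
    push Not at hcon
    have := hcon (y + z) (add_mem hy hz)
    rw [QuadraticMap.map_add (⇑Q), hcon y hy, hcon z hz, hyz] at this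
    simp at this
  have h := mem_ker_conds.mp hc
  exact ⟨v, c, hu, hv, huv, hua, h 0, by rw [polar_comm]; exact hav, h 1, h 2, ha, hcQ⟩

/-- Every singular vector starts a frame. -/
theorem exists_frame_of_singular {u : ι → F} (hu0 : u ≠ 0) (hu : Q u = 0) :
    ∃ v a c, Frame Q u v a c := by
  obtain ⟨v, hv, huv⟩ := Orth.exists_partner hQ hu0 hu
  obtain ⟨y, y', h1, -, h1', -, hyy⟩ := exists_pair_hyperbolic hQ (by omega) hu hv huv
  obtain ⟨a, hua, ha⟩ : ∃ a, polar ⇑Q u a = 0 ∧ Q a ≠ 0 := by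
    by_contra hcon
    push Not at hcon
    have := hcon (y + y') (by rw [polar_add_right, h1, h1', add_zero])
    rw [QuadraticMap.map_add (⇑Q), hcon y h1, hcon y' h1', hyy] at this
    simp at this
  obtain ⟨v', c, fr⟩ := exists_frame hQ h2 h4 hu0 hu hua ha
  exact ⟨v', a, c, fr⟩

variable (hM : Cfsg.Geo.quadSimilarityGroup ⇑Q ⊓ Cfsg.Geo.specialLinear ι F ≤ H)
include hM

/-- One transvection with singular centre gives the transvections along that line. -/
theorem line_of_root [Finite F] {u w : ι → F} (hu0 : u ≠ 0) (hu : Q u = 0) (hw0 : w ≠ 0)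
    (hR : Root Q H u w) (d : F) : Root Q H u (d • u) := by
  by_cases hind : ∀ s : F, w ≠ s • u
  · obtain ⟨t, hut, hwt⟩ := exists_sep hQ hu0 hind
    have hut' : polar ⇑Q u ((-d) • t) = 0 := by rw [polar_smul_right, hut, smul_zero]
    have h1 := root_conj (hM (eichlerGL_mem hu hut')) (fun y => Q_eichlerGL hu hut' y) hR
    rw [eichlerGL_mulVec, eichlerGL_mulVec, Orth.polar_self_zero hu, polar_comm _ ((-d) • t) u, hut',
      polar_comm _ u w, hR.1, polar_smul_left, polar_comm _ t w, hwt] at h1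
    convert root_sub (by simpa using h1) hR using 1
    abel
  push Not at hind
  obtain ⟨κ, rfl⟩ := hind
  have hκ : κ ≠ 0 := fun h => hw0 (by rw [h, zero_smul])
  obtain ⟨v, a, c, fr⟩ := exists_frame_of_singular hQ h2 h4 hu0 hu
  have hsq : ∀ t : F, Root Q H u ((t * t * κ) • u) := fun t => by
    rcases eq_or_ne t 0 with rfl | ht
    · simpa using root_zero (Q := Q) (H := H) u
    obtain ⟨g, hgM, hg, hgu, -, -⟩ := fr.exists_torus h2 h4 ht
    have h1 := root_conj (hM hgM) hg hR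
    rw [mulVec_smul, hgu] at h1
    have h3 := root_scale (inv_ne_zero ht) h1
    rw [smul_smul, inv_mul_cancel₀ ht, one_smul, inv_inv, smul_smul, smul_smul] at h3
    convert h3 using 2
    ring
  have := root_sub (hsq ((d / κ + 1) / 2)) (hsq ((d / κ - 1) / 2))
  rw [← sub_smul] at this
  convert this using 2
  field_simp
  ring

/-- Transvections along one singular line give those along all. -/
theorem lines_all [Finite F] {u : ι → F} (hu0 : u ≠ 0) (hu : Q u = 0)
    (hl : ∀ d : F, Root Q H u (d • u)) {x : ι → F} (hx0 : x ≠ 0) (hx : Q x = 0) (d : F) :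
    Root Q H x (d • x) := by
  obtain ⟨v', hv', huv', hxv'⟩ := exists_common_partner hQ h2 (by omega) hu0 hu hx0
  set r := (polar ⇑Q x v')⁻¹ with hr
  obtain ⟨g, hgM, hg, hgu⟩ := exists_move hQ hu (x' := r • x)
    (by rw [QuadraticMap.map_smul, hx, smul_zero]) hv' one_ne_zero
    (by rw [polar_comm]; exact huv')
    (by rw [polar_smul_right, polar_comm _ v' x, smul_eq_mul, hr, inv_mul_cancel₀ hxv'])
  have hr0 : r ≠ 0 := inv_ne_zero hxv'
  have h1 := root_conj (hM hgM) hg (hl (d / (r * r)))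
  rw [mulVec_smul, hgu] at h1
  have h3 := root_scale (inv_ne_zero hr0) h1
  rw [smul_smul, inv_mul_cancel₀ hr0, one_smul, inv_inv, smul_smul, smul_smul] at h3
  convert h3 using 2
  field_simp

/-- Transvections along singular lines give one with anisotropic axis. -/
theorem aniso_of_lines [Finite F]
    (hl : ∀ x, x ≠ 0 → Q x = 0 → ∀ d : F, Root Q H x (d • x)) :
    ∃ x w, x ≠ 0 ∧ Q x = 0 ∧ Q w ≠ 0 ∧ Root Q H x w := by
  obtain ⟨u, hu0, hu⟩ := Orth.exists_singular h2 hQ (by omega)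
  obtain ⟨v, a, c, fr⟩ := exists_frame_of_singular hQ h2 h4 hu0 hu
  have hv0 : v ≠ 0 := fun h => by simpa [h] using fr.huv
  have hau : polar ⇑Q a u = 0 := by rw [polar_comm]; exact fr.hua
  have hav : polar ⇑Q a v = 0 := by rw [polar_comm]; exact fr.hva
  have hvu : polar ⇑Q v u = 1 := by rw [polar_comm]; exact fr.huv
  obtain ⟨β, hβdef⟩ : ∃ β, β = -Q a := ⟨_, rfl⟩
  have hβ : β ≠ 0 := by rw [hβdef]; exact neg_ne_zero.mpr fr.ha
  set x := u + β • v + a with hxdef
  have hxQ : Q x = 0 := by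
    simp [hxdef, QuadraticMap.map_add (⇑Q), QuadraticMap.map_smul, polar_add_left, polar_smul_left,
      polar_smul_right, fr.hu, fr.hv, fr.huv, fr.hua, fr.hva, hβdef]
  have hx0 : x ≠ 0 := fun h => by
    have := congrArg (polar ⇑Q v) h
    simp [hxdef, polar_add_right, polar_smul_right, Orth.polar_self_zero fr.hv, hvu, fr.hva] at this
  have huu := Orth.polar_self_zero fr.hu
  have hvv := Orth.polar_self_zero fr.hv
  have da : dual Q ((2 / β) • u) ⬝ᵥ u = 0 := by rw [dual_dot, polar_smul_left, huu, smul_zero]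
  have db : dual Q ((-2 * β) • v) ⬝ᵥ v = 0 := by rw [dual_dot, polar_smul_left, hvv, smul_zero]
  have dx : dual Q ((1 : F) • x) ⬝ᵥ x = 0 := by
    rw [dual_dot, polar_smul_left, Orth.polar_self_zero hxQ, smul_zero]
  set k := Tr u (dual Q ((2 / β) • u)) da * Tr v (dual Q ((-2 * β) • v)) db with hk
  have hkH : k ∈ H := H.mul_mem (root_mem (hl u hu0 fr.hu _) da) (root_mem (hl v hv0 fr.hv _) db)
  have hkx : ∀ y, (k : Matrix ι ι F) *ᵥ y = y + (-2 * β * polar ⇑Q v y) • v +
      ((2 / β) * (polar ⇑Q u y + -2 * β * polar ⇑Q v y)) • u := by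
    intro y
    rw [hk, Units.val_mul, ← mulVec_mulVec, Tr_mulVec, Tr_mulVec, dual_dot, dual_dot,
      polar_smul_left, polar_smul_left, polar_add_right, polar_smul_right, fr.huv]
    simp only [smul_eq_mul]
    module
  have hkx' : (k : Matrix ι ι F) *ᵥ x = (-1 : F) • u + (-β) • v + a := by
    rw [hkx]
    simp [hxdef, polar_add_right, polar_smul_right, huu, hvv, fr.huv, hvu, fr.hua, fr.hva]
    match_scalars <;> field_simp <;> ring
  have h1 := H.mul_mem (H.mul_mem hkH (root_mem (hl x hx0 hxQ 1) dx)) (H.inv_mem hkH)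
  rw [conj_Tr] at h1
  refine ⟨(k : Matrix ι ι F) *ᵥ x, (-5 : F) • u + (3 * β) • v + a, fun h => hx0 ?_, ?_, ?_, ?_,
    fun hd => ?_⟩
  · rw [← inv_mulVec k x, h, mulVec_zero]
  · rw [hkx']
    simp [QuadraticMap.map_add (⇑Q), QuadraticMap.map_smul, polar_add_left, polar_smul_left,
      polar_smul_right, fr.hu, fr.hv, fr.huv, fr.hua, fr.hva, hβdef]
  · intro h
    simp [QuadraticMap.map_add (⇑Q), QuadraticMap.map_smul, polar_add_left, polar_smul_left,
      polar_smul_right, fr.hu, fr.hv, fr.huv, fr.hua, fr.hva] at h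
    have h16 : (2 * 2 * (2 * 2)) * β = 0 := by rw [hβdef] at h ⊢; linear_combination -h
    exact mul_ne_zero (mul_ne_zero (mul_ne_zero h2 h2) (mul_ne_zero h2 h2)) hβ h16
  · rw [hkx']
    simp [polar_add_left, polar_add_right, polar_smul_left, polar_smul_right, huu, hvv, fr.huv, hvu,
      fr.hua, fr.hva, hau, hav, Orth.polar_self_eq, hβdef]
    ring
  · convert h1 using 1
    refine gl_ext fun y => ?_
    rw [Tr_mulVec, Tr_mulVec, dual_dot, ← dotProduct_mulVec, dual_dot, one_smul]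
    congr 2
    conv_lhs => rw [← mulVec_inv k y]
    rw [hkx]
    simp [hxdef, polar_add_left, polar_add_right, polar_smul_left, polar_smul_right, huu, hvv, fr.huv,
      hvu, hau, hav]
    field_simp
    ring

/-- A transvection with anisotropic axis gives all with the same centre. -/
theorem full_of_aniso [Finite F] {u a : ι → F} (hu0 : u ≠ 0) (hu : Q u = 0) (ha : Q a ≠ 0)
    (hR : Root Q H u a) : Full Q H u := by
  obtain ⟨v, c, fr⟩ := exists_frame hQ h2 h4 hu0 hu (by rw [polar_comm]; exact hR.1) ha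
  have hscale : ∀ y, Root Q H u y → (∀ t : F, t ≠ 0 →
      ∀ g : GL ι F, (g : Matrix ι ι F) *ᵥ a = a → (g : Matrix ι ι F) *ᵥ c = c →
      (g : Matrix ι ι F) *ᵥ y = y) → ∀ t : F, Root Q H u (t • y) := by
    intro y hy hfix t
    rcases eq_or_ne t 0 with rfl | ht
    · simpa using root_zero (Q := Q) (H := H) u
    obtain ⟨g, hgM, hg, hgu, hga, hgc⟩ := fr.exists_torus h2 h4 ht
    have h1 := root_conj (hM hgM) hg hy
    rw [hgu, hfix t ht g hga hgc] at h1
    have h3 := root_scale (inv_ne_zero ht) h1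
    rwa [smul_smul, inv_mul_cancel₀ ht, one_smul, inv_inv] at h3
  have hline := line_of_root hQ h2 h4 hM hu0 hu (fun h => ha (by rw [h, QuadraticMap.map_zero])) hR
  have hRa := hscale a hR fun _ _ _ hga _ => hga
  -- an element fixing the centre and moving the axis
  obtain ⟨x, y, hy, hR'⟩ : ∃ x y : F, y ≠ 0 ∧ Root Q H u (x • a + y • c) := by
    by_cases hρ : Q a + Q c = 0
    · obtain ⟨g, hgM, hgc, hgQ⟩ := fr.exists_elem h2 h4 !![1, 0, 0, 0; 0, -1, 0, 0; 0, 0, 0, 1; 0, 0, 1, 0]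
        (by simp [det_succ_row_zero, Fin.sum_univ_succ]) (-1) fun z => by
          simp [fr.Q_comb, Fin.sum_univ_four, mulVec, dotProduct]
          linear_combination (z 3 * z 3 + z 2 * z 2) * hρ
      have h1 := root_conj_sim (hM hgM) hgQ hR
      have e1 : (g : Matrix ι ι F) *ᵥ u = u := by simpa [comb, mulVec, vecHead, vecTail] using hgc ![1, 0, 0, 0]
      have e2 : (g : Matrix ι ι F) *ᵥ a = c := by simpa [comb, mulVec, vecHead, vecTail] using hgc ![0, 0, 1, 0]
      rw [e1, e2] at h1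
      exact ⟨0, -1, neg_ne_zero.mpr one_ne_zero, by simpa using h1⟩
    obtain ⟨ρ, hρ'⟩ : ∃ ρ, ρ = Q c / Q a := ⟨_, rfl⟩
    have hρ1 : 1 + ρ ≠ 0 := fun h => hρ (by
      have : Q c = ρ * Q a := by rw [hρ', div_mul_cancel₀ _ ha]
      linear_combination this + Q a * h)
    have hcρ : Q c = ρ * Q a := by rw [hρ', div_mul_cancel₀ _ ha]
    obtain ⟨g, hgM, hgc, hgQ⟩ := fr.exists_elem h2 h4
      !![1, 0, 0, 0; 0, 1, 0, 0; 0, 0, (1 - ρ) / (1 + ρ), -(ρ * (2 / (1 + ρ)));
        0, 0, 2 / (1 + ρ), (1 - ρ) / (1 + ρ)]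
      (by simp [det_succ_row_zero, Fin.sum_univ_succ]; field_simp; ring) 1 fun z => by
        simp [fr.Q_comb, Fin.sum_univ_four, mulVec, dotProduct, hcρ]
        field_simp
        ring
    have h1 := root_conj_sim (hM hgM) hgQ hR
    have e1 : (g : Matrix ι ι F) *ᵥ u = u := by simpa [comb, mulVec, vecHead, vecTail] using hgc ![1, 0, 0, 0]
    have e2 : (g : Matrix ι ι F) *ᵥ a = ((1 - ρ) / (1 + ρ)) • a + (2 / (1 + ρ)) • c := by
      simpa [comb, mulVec, vecHead, vecTail] using hgc ![0, 0, 1, 0]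
    rw [e1, e2] at h1
    exact ⟨(1 - ρ) / (1 + ρ), 2 / (1 + ρ), div_ne_zero h2 hρ1, by simpa using h1⟩
  have hRc : Root Q H u (y • c) := by
    have := root_sub hR' (hRa x)
    rwa [add_sub_cancel_left] at this
  have hRc' := hscale (y • c) hRc fun _ _ g _ hgc => by rw [mulVec_smul, hgc]
  intro w hw
  obtain ⟨z, rfl⟩ := fr.exists_comb h2 h4 w
  rw [polar_comm, fr.polar_comb_u] at hw
  have h := root_add (root_add (hline (z 0)) (hRa (z 2))) (hRc' (z 3 / y))
  rw [smul_smul, div_mul_cancel₀ _ hy] at h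
  convert h using 1
  simp [comb, hw]

/-- A conjugate Eichler element. -/
theorem exists_conj_eichler [Finite F] {g : GL ι F} (hgH : g ∈ H) {u z w' : ι → F}
    (hp : Q (((g⁻¹ : GL ι F) : Matrix ι ι F) *ᵥ u) = 0)
    (hw' : ∀ x, polar ⇑Q w' x = polar ⇑Q (((g⁻¹ : GL ι F) : Matrix ι ι F) *ᵥ u)
      (((g⁻¹ : GL ι F) : Matrix ι ι F) *ᵥ x))
    (hz' : polar ⇑Q w' z = 0) :
    ∃ E ∈ H, ∀ x, (E : Matrix ι ι F) *ᵥ x = x + polar ⇑Q w' x • z -
      (polar ⇑Q (((g⁻¹ : GL ι F) : Matrix ι ι F) *ᵥ z) (((g⁻¹ : GL ι F) : Matrix ι ι F) *ᵥ x) +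
        Q (((g⁻¹ : GL ι F) : Matrix ι ι F) *ᵥ z) * polar ⇑Q w' x) • u := by
  have hgz := (hw' z).symm.trans hz'
  refine ⟨g * eichlerGL Q _ _ hp hgz * g⁻¹,
    H.mul_mem (H.mul_mem hgH (hM (eichlerGL_mem hp hgz))) (H.inv_mem hgH), fun x => ?_⟩
  rw [gl_mulVec, gl_mulVec, eichlerGL_mulVec, ← hw' x, mulVec_sub, mulVec_add, mulVec_smul,
    mulVec_smul, mulVec_inv, mulVec_inv, mulVec_inv]

/-- An element sending a singular vector to a singular one gives a transvection. -/
theorem root_of_common_zero [Finite F] (hHS : H ≤ Cfsg.Geo.specialLinear ι F) {g : GL ι F}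
    (hgH : g ∈ H) (hg : g ∉ Cfsg.Geo.quadSimilarityGroup ⇑Q) {u : ι → F} (hu0 : u ≠ 0)
    (hu : Q u = 0) (hp : Q (((g⁻¹ : GL ι F) : Matrix ι ι F) *ᵥ u) = 0) :
    ∃ w, w ≠ 0 ∧ Root Q H u w := by
  set gi := ((g⁻¹ : GL ι F) : Matrix ι ι F) with hgi
  have hwex : ∀ r, ∃ w', ∀ x, polar ⇑Q w' x = polar ⇑Q (gi *ᵥ r) (gi *ᵥ x) := by
    intro r
    obtain ⟨w', hw'⟩ := (dual_bijective hQ).2 (dual Q (gi *ᵥ r) ᵥ* gi)
    exact ⟨w', fun x => by rw [← dual_dot, hw', ← dotProduct_mulVec, dual_dot]⟩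
  obtain ⟨w', hw'⟩ := hwex u
  have huu := Orth.polar_self_zero hu
  have hw'u : polar ⇑Q w' u = 0 := by rw [hw']; exact Orth.polar_self_zero hp
  have huw' : polar ⇑Q u w' = 0 := by rw [polar_comm]; exact hw'u
  by_cases hne : ∀ s : F, w' ≠ s • u
  · by_cases hQw : Q w' = 0
    swap
    · obtain ⟨v, c, fr⟩ := exists_frame hQ h2 h4 hu0 hu huw' hQw
      refine ⟨_, fun h => ?_, root_commutator hQ h2 hM hgH hu hp hw' fr.huc fr.hac fr.huc fr.hac⟩
      have hcc : polar ⇑Q c c ≠ 0 := by rw [Orth.polar_self_eq]; exact mul_ne_zero h2 fr.hc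
      refine hne ((polar ⇑Q c c)⁻¹ * polar ⇑Q (gi *ᵥ c) (gi *ᵥ c)) ?_
      rw [mul_smul, sub_eq_zero.mp h, smul_smul, inv_mul_cancel₀ hcc, one_smul]
    have hw'w' := Orth.polar_self_zero hQw
    by_cases hPw : Q (gi *ᵥ w') = 0
    swap
    · refine ⟨_, fun h => ?_,
        root_commutator hQ h2 hM hgH hu hp hw' huw' hw'w' huw' hw'w'⟩
      rw [hw'w', zero_smul, sub_zero, Orth.polar_self_eq, ← hgi] at h
      exact mul_ne_zero h2 hPw ((smul_eq_zero.mp h).resolve_right hu0)
    -- two totally singular lines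
    obtain ⟨E, hEH, hE⟩ := exists_conj_eichler hQ h2 h4 hM hgH hp hw' hw'w'
    obtain ⟨w'', hw''⟩ := hwex w'
    have hE' : ∀ x, (E : Matrix ι ι F) *ᵥ x = x + polar ⇑Q w' x • w' - polar ⇑Q w'' x • u := fun x => by
      rw [hE, hw'', ← hgi, hPw, zero_mul, add_zero]
    have hw''u : polar ⇑Q w'' u = 0 := by rw [hw'', polar_comm, ← hw', hw'w']
    have hw''w' : polar ⇑Q w'' w' = 0 := by rw [hw'']; exact Orth.polar_self_zero hPw
    obtain ⟨t, hut, hwt⟩ := exists_sep hQ hu0 hne
    have hut' : polar ⇑Q u (-t) = 0 := by rw [polar_neg_right, hut, neg_zero]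
    set h := eichlerGL Q u (-t) hu hut' with hh
    have hhu : (h : Matrix ι ι F) *ᵥ u = u := by
      rw [hh, eichlerGL_mulVec, huu, polar_comm _ (-t) u, hut']
      simp
    have hhw' : (h : Matrix ι ι F) *ᵥ w' = w' + u := by
      rw [hh, eichlerGL_mulVec, huw', polar_neg_left, polar_comm _ t w', hwt]
      simp
    obtain ⟨σ, hσ⟩ : ∃ σ, σ = polar ⇑Q t w'' := ⟨_, rfl⟩
    have hhw'' : (h : Matrix ι ι F) *ᵥ w'' = w'' + σ • u := by
      rw [hh, eichlerGL_mulVec, polar_comm _ u w'', hw''u, polar_neg_left, ← hσ]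
      simp
    have hiso := fun y => Q_eichlerGL hu hut' y
    have hpi : ∀ r x, polar ⇑Q r (((h⁻¹ : GL ι F) : Matrix ι ι F) *ᵥ x) =
        polar ⇑Q ((h : Matrix ι ι F) *ᵥ r) x := fun r x => by
      conv_rhs => rw [← mulVec_inv h x, polar_of_isometry hiso]
    have huw'' : polar ⇑Q u (-w') = 0 := by rw [polar_neg_right, huw', neg_zero]
    have hXH := H.mul_mem (H.mul_mem (H.mul_mem (hM (eichlerGL_mem hu hut')) hEH)
      (H.inv_mem (hM (eichlerGL_mem hu hut')))) (hM (eichlerGL_mem hu huw''))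
    refine ⟨(2 : F) • w' + (1 - σ) • u, fun e => ?_, ?_, fun hd => ?_⟩
    · exact hne (-(2 : F)⁻¹ * (1 - σ)) (by
        rw [neg_mul, neg_smul, mul_smul, ← add_eq_zero_iff_eq_neg]
        have := congrArg (fun r => (2 : F)⁻¹ • r) e
        simpa [smul_add, smul_smul, inv_mul_cancel₀ h2] using this)
    · simp [polar_add_left, polar_smul_left, hw'u, huu]
    · have key : eichlerGL Q u (-t) hu hut' * E * (eichlerGL Q u (-t) hu hut')⁻¹ *
          eichlerGL Q u (-w') hu huw'' = Tr u (dual Q ((2 : F) • w' + (1 - σ) • u)) hd * E := by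
        refine gl_ext fun x => ?_
        rw [gl_mulVec, gl_mulVec, gl_mulVec, gl_mulVec, Tr_mulVec, dual_dot, hE', hE', ← hh,
          mulVec_sub, mulVec_add, mulVec_smul, mulVec_smul, hhu, hhw', mulVec_inv, hpi, hpi, hhw', hhw'',
          eichlerGL_mulVec, QuadraticMap.map_neg, hQw]
        simp only [polar_add_left, polar_add_right, polar_sub_right, polar_smul_right, polar_smul_left,
          polar_neg_left, polar_neg_right, huu, huw', hw'u, hw'w', hw''u, hw''w', smul_eq_mul]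
        module
      have h1 := H.mul_mem hXH (H.inv_mem hEH)
      rwa [key, mul_inv_cancel_right] at h1
  -- the image of `u` is proportional
  push Not at hne
  obtain ⟨lam, rfl⟩ := hne
  have hlam : ∀ x, polar ⇑Q (gi *ᵥ u) (gi *ᵥ x) = lam * polar ⇑Q u x := fun x => by
    rw [← hw', polar_smul_left, smul_eq_mul]
  have hlam0 : lam ≠ 0 := by
    intro e
    have h0 : gi *ᵥ u = 0 := eq_zero_of_forall hQ fun x => by
      have := hlam ((g : Matrix ι ι F) *ᵥ x)
      rwa [hgi, inv_mulVec, ← hgi, e, zero_mul] at this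
    exact hu0 (by rw [← mulVec_inv g u, ← hgi, h0, mulVec_zero])
  obtain ⟨v, a, c, fr⟩ := exists_frame_of_singular hQ h2 h4 hu0 hu
  by_cases h0 : ∀ y z, polar ⇑Q u y = 0 → polar ⇑Q u z = 0 →
      polar ⇑Q (gi *ᵥ z) (gi *ᵥ y) = lam * polar ⇑Q y z
  swap
  · push Not at h0
    obtain ⟨y, z, hy, hz, hyz⟩ := h0
    refine ⟨_, fun h => hyz ?_, root_commutator hQ h2 hM hgH hu hp hw' hy
      (by rw [polar_smul_left, hy, smul_zero]) hz (by rw [polar_smul_left, hz, smul_zero])⟩
    rw [smul_smul, ← sub_smul, ← hgi] at h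
    linear_combination (smul_eq_zero.mp h).resolve_right hu0
  have hPq : ∀ z, polar ⇑Q u z = 0 → Q (gi *ᵥ z) = lam * Q z := fun z hz => by
    have := h0 z z hz hz
    rw [Orth.polar_self_eq, Orth.polar_self_eq] at this
    exact mul_left_cancel₀ h2 (by linear_combination this)
  have hsplit : ∀ x, polar ⇑Q u (x - polar ⇑Q u x • v) = 0 := fun x => by
    simp [polar_sub_right, polar_smul_right, fr.huv]
  by_cases h1 : ∀ z, polar ⇑Q u z = 0 → polar ⇑Q (gi *ᵥ z) (gi *ᵥ v) = lam * polar ⇑Q z v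
  swap
  · push Not at h1
    obtain ⟨z, hz, hzv⟩ := h1
    set z₁ := lam⁻¹ • z with hz₁
    have hz₁u : polar ⇑Q (lam • u) z₁ = 0 := by
      rw [polar_smul_left, hz₁, polar_smul_right, hz, smul_zero, smul_zero]
    obtain ⟨E, hEH, hE⟩ := exists_conj_eichler hQ h2 h4 hM hgH hp hw' hz₁u
    obtain ⟨d, hd⟩ : ∃ d, d = polar ⇑Q (gi *ᵥ z) (gi *ᵥ v) - lam * polar ⇑Q z v := ⟨_, rfl⟩
    have hd0 : d ≠ 0 := by rw [hd]; exact sub_ne_zero.mpr hzv
    refine ⟨(-(d / lam)) • u, smul_ne_zero (neg_ne_zero.mpr (div_ne_zero hd0 hlam0)) hu0, ?_,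
      fun hdd => ?_⟩
    · rw [polar_smul_left, huu, smul_zero]
    · have key : E = Tr u (dual Q ((-(d / lam)) • u)) hdd * eichlerGL Q u z hu hz := by
        refine gl_ext fun x => ?_
        have hzx : polar ⇑Q (gi *ᵥ z) (gi *ᵥ x) = lam * polar ⇑Q z x + polar ⇑Q u x * d := by
          have e : x = (x - polar ⇑Q u x • v) + polar ⇑Q u x • v := (sub_add_cancel _ _).symm
          conv_lhs => rw [e, mulVec_add, polar_add_right, mulVec_smul, polar_smul_right,
            h0 _ z (hsplit x) hz, polar_comm _ _ z]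
          rw [hd, polar_sub_right, polar_smul_right, smul_eq_mul, smul_eq_mul]
          ring
        rw [gl_mulVec, Tr_mulVec, dual_dot, hE, eichlerGL_mulVec, ← hgi, hz₁]
        simp only [mulVec_smul, QuadraticMap.map_smul, polar_smul_left, smul_eq_mul]
        rw [hzx, hPq z hz]
        simp only [polar_sub_right, polar_add_right, polar_smul_right, polar_smul_left, huu, hz,
          smul_eq_mul]
        match_scalars <;> field_simp <;> ring
      have h2' := H.mul_mem hEH (H.inv_mem (hM (eichlerGL_mem hu hz)))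
      rwa [key, mul_inv_cancel_right] at h2'
  -- `g` is a transvection times a similitude
  obtain ⟨k, hk⟩ : ∃ k, k = (Q (gi *ᵥ v)) / lam := ⟨_, rfl⟩
  have hP : ∀ x, Q (gi *ᵥ x) = lam * (Q x + k * (polar ⇑Q u x * polar ⇑Q u x)) := fun x => by
    have e : x = (x - polar ⇑Q u x • v) + polar ⇑Q u x • v := (sub_add_cancel _ _).symm
    conv_lhs => rw [e, mulVec_add, QuadraticMap.map_add (⇑Q), hPq _ (hsplit x), mulVec_smul,
      QuadraticMap.map_smul, polar_smul_right, h1 _ (hsplit x)]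
    conv_rhs => arg 2; arg 1; rw [e, QuadraticMap.map_add (⇑Q), QuadraticMap.map_smul,
      polar_smul_right, fr.hv]
    rw [hk]
    simp only [smul_eq_mul]
    field_simp
    ring
  have hku : dual Q (k • u) ⬝ᵥ u = 0 := by rw [dual_dot, polar_smul_left, huu, smul_zero]
  set τ := Tr u (dual Q (k • u)) hku with hτ
  have hτQ : ∀ x, Q ((τ : Matrix ι ι F) *ᵥ x) = lam⁻¹ * Q (gi *ᵥ x) := fun x => by
    rw [hτ, Tr_mulVec, dual_dot, hP, QuadraticMap.map_add (⇑Q), QuadraticMap.map_smul, hu,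
      polar_smul_right, polar_smul_left, polar_comm _ x u]
    simp only [smul_eq_mul]
    field_simp
    ring
  have hmS : τ * g ∈ Cfsg.Geo.quadSimilarityGroup ⇑Q :=
    ⟨(Units.mk0 lam hlam0)⁻¹, fun x => by
      rw [gl_mulVec, hτQ, hgi, inv_mulVec, Units.val_inv_eq_inv_val, Units.val_mk0]⟩
  have hmH : τ * g ∈ H := hM ⟨hmS, mul_mem (Tr_mem_SL u _ hku) (hHS hgH)⟩
  have hτH : τ ∈ H := by simpa using H.mul_mem hmH (H.inv_mem hgH)
  refine ⟨k • u, fun e => hg ?_, by rw [polar_smul_left, huu, smul_zero], fun _ => hτH⟩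
  have : τ = 1 := gl_ext fun x => by rw [hτ, Tr_mulVec, dual_dot, e]; simp
  rwa [this, one_mul] at hmS

/-- Some element outside the similitudes sends a singular vector to a singular one. -/
theorem exists_element_common_zero [Finite F] {g : GL ι F} (hgH : g ∈ H)
    (hg : g ∉ Cfsg.Geo.quadSimilarityGroup ⇑Q) :
    ∃ g' ∈ H, g' ∉ Cfsg.Geo.quadSimilarityGroup ⇑Q ∧
      ∃ u, u ≠ 0 ∧ Q u = 0 ∧ Q (((g'⁻¹ : GL ι F) : Matrix ι ι F) *ᵥ u) = 0 := by
  classical
  haveI : Fintype F := Fintype.ofFinite F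
  by_contra hcon
  push Not at hcon
  have hnz : ∀ (h : GL ι F) {x : ι → F}, x ≠ 0 → (h : Matrix ι ι F) *ᵥ x ≠ 0 := fun h x hx e =>
    hx (by rw [← inv_mulVec h x, e, mulVec_zero])
  have hno : ∀ h ∈ H, h ∉ Cfsg.Geo.quadSimilarityGroup ⇑Q → ∀ x, x ≠ 0 → Q x = 0 →
      Q ((h : Matrix ι ι F) *ᵥ x) ≠ 0 := fun h hh hhs x hx0 hx hQx =>
    hcon h hh hhs _ (hnz h hx0) hQx (by rw [inv_mulVec]; exact hx)
  obtain ⟨e, he0, he⟩ := Orth.exists_singular h2 hQ (by omega)
  obtain ⟨v, a, c, fr⟩ := exists_frame_of_singular hQ h2 h4 he0 he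
  let el : F × F → ι → F := fun p => p.1 • a + p.2 • c
  have hel : ∀ p, polar ⇑Q e (el p) = 0 := fun p => by
    simp [el, polar_add_right, polar_smul_right, fr.hua, fr.huc]
  let E : F × F → GL ι F := fun p => eichlerGL Q e (el p) he (hel p)
  have hEM : ∀ p, E p ∈ Cfsg.Geo.quadSimilarityGroup ⇑Q ⊓ Cfsg.Geo.specialLinear ι F := fun p =>
    eichlerGL_mem he (hel p)
  have hEQ : ∀ p y, Q ((E p : Matrix ι ι F) *ᵥ y) = Q y := fun p y => Q_eichlerGL he (hel p) y
  let pt : Option (F × F) → ι → F := fun o =>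
    o.elim e fun p => v + el p + (-Q (el p)) • e
  have hpt : ∀ o, pt o = comb e v a c
      (o.elim ![1, 0, 0, 0] fun p => ![-Q (el p), 1, p.1, p.2]) := by
    rintro (_ | p)
    · simp [pt, comb]
    · simp [pt, comb, el]; abel
  let σ : Option (F × F) × Fˣ → ι → F := fun q => (q.2 : F) • pt q.1
  have hσQ : ∀ q, Q (σ q) = 0 := by
    rintro ⟨_ | p, t⟩
    · simp [σ, pt, QuadraticMap.map_smul, he]
    · show Q ((t : F) • pt (some p)) = 0
      rw [QuadraticMap.map_smul, hpt, fr.Q_comb]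
      simp [el, QuadraticMap.map_add (⇑Q), QuadraticMap.map_smul, polar_smul_left, polar_smul_right, fr.hac]
  have hcinj : Function.Injective (comb e v a c) := fun z z' h => by
    have h0 := congrArg (polar ⇑Q v) h
    have h1 := congrArg (polar ⇑Q e) h
    have h2' := congrArg (polar ⇑Q a) h
    have h3 := congrArg (polar ⇑Q c) h
    rw [fr.polar_comb_v, fr.polar_comb_v] at h0
    rw [fr.polar_comb_u, fr.polar_comb_u] at h1
    rw [fr.polar_comb_a, fr.polar_comb_a] at h2'
    rw [fr.polar_comb_c, fr.polar_comb_c] at h3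
    funext i
    fin_cases i
    · exact h0
    · exact h1
    · exact mul_right_cancel₀ (mul_ne_zero h2 fr.ha) h2'
    · exact mul_right_cancel₀ (mul_ne_zero h2 fr.hc) h3
  have hscomb : ∀ (t : F) z, t • comb e v a c z = comb e v a c (t • z) := fun t z => by
    simp [comb, smul_add, smul_smul]
  have hσinj : Function.Injective σ := by
    rintro ⟨o, t⟩ ⟨o', t'⟩ h
    simp only [σ, hpt, hscomb] at h
    have h' := hcinj h
    rcases o with _ | p <;> rcases o' with _ | r
    · have e0 : (t : F) = t' := by simpa using congrFun h' 0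
      rw [Units.ext e0]
    · have e1 : (0 : F) = t' := by simpa using congrFun h' 1
      exact absurd e1.symm t'.ne_zero
    · have e1 : (t : F) = 0 := by simpa using congrFun h' 1
      exact absurd e1 t.ne_zero
    · have e1 : (t : F) = t' := by simpa using congrFun h' 1
      obtain rfl := Units.ext e1
      have e2 : p.1 = r.1 := by simpa using congrFun h' 2
      have e3 : p.2 = r.2 := by simpa using congrFun h' 3
      rw [Prod.ext e2 e3]
  have hσ0 : ∀ q, σ q ≠ 0 := fun q h => by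
    simp only [σ, hpt, hscomb] at h
    have h' : _ = (0 : Fin 4 → F) := hcinj (h.trans (by simp [comb]))
    obtain ⟨_ | p, t⟩ := q
    · simpa using congrFun h' 0
    · simpa using congrFun h' 1
  let Φ : Option (F × F) × (Option (F × F) × Fˣ) → {x : ι → F // x ≠ 0} := fun q =>
    q.1.elim ⟨σ q.2, hσ0 q.2⟩ fun p =>
      ⟨((E p * g : GL ι F) : Matrix ι ι F) *ᵥ σ q.2, hnz _ (hσ0 q.2)⟩
  have hEg : ∀ p i j, ((E p * g : GL ι F) : Matrix ι ι F) *ᵥ σ i ≠ σ j := by
    intro p i j h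
    refine hno (E p * g) (H.mul_mem (hM (hEM p)) hgH) (fun hm => hg ?_) (σ i) (hσ0 i) (hσQ i)
      (by rw [h]; exact hσQ j)
    simpa using Subgroup.mul_mem _ (Subgroup.inv_mem _ (hEM p).1) hm
  have hsame : ∀ p r i j, p ≠ r → ((E p * g : GL ι F) : Matrix ι ι F) *ᵥ σ i ≠
      ((E r * g : GL ι F) : Matrix ι ι F) *ᵥ σ j := by
    intro p r i j hpr h
    have hmul : E r * E (p.1 - r.1, p.2 - r.2) = E p := Units.ext (by
      show eichlerMat Q e (el r) * eichlerMat Q e (el (p.1 - r.1, p.2 - r.2)) = eichlerMat Q e (el p)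
      rw [eichlerMat_mul he (hel _) (hel _)]
      congr 1
      simp [el]
      module)
    set s : F × F := (p.1 - r.1, p.2 - r.2)
    have hs : el s ≠ 0 := fun e' => by
      have h' : comb e v a c ![0, 0, s.1, s.2] = comb e v a c 0 := by
        simp [comb]
        exact e'
      have k2 := congrFun (hcinj h') 2
      have k3 := congrFun (hcinj h') 3
      simp [s, sub_eq_zero] at k2 k3
      exact hpr (Prod.ext k2 k3)
    rw [← hmul, mul_assoc, gl_mulVec (E r) (E s * g), gl_mulVec (E r) g] at h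
    have h' := congrArg (((E r)⁻¹ : GL ι F) : Matrix ι ι F).mulVec h
    simp only [inv_mulVec] at h'
    refine hno (g⁻¹ * (E s * g)) (H.mul_mem (H.inv_mem hgH) (H.mul_mem (hM (hEM s)) hgH)) (fun hm => ?_)
      (σ i) (hσ0 i) (hσQ i) (by rw [gl_mulVec, h', inv_mulVec]; exact hσQ j)
    obtain ⟨μ, hμ⟩ := hm
    set gi := ((g⁻¹ : GL ι F) : Matrix ι ι F) with hgi
    have hinv : ∀ y, Q (gi *ᵥ ((E s : Matrix ι ι F) *ᵥ y)) = (μ : F) * Q (gi *ᵥ y) := fun y => by
      have := hμ (gi *ᵥ y)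
      rwa [gl_mulVec, gl_mulVec, hgi, mulVec_inv] at this
    have hfix : (E s : Matrix ι ι F) *ᵥ e = e := by
      rw [eichlerGL_mulVec, Orth.polar_self_zero he, polar_comm _ (el s) e, hel]
      simp
    have hPe : Q (gi *ᵥ e) ≠ 0 := hno g⁻¹ (H.inv_mem hgH)
      (fun hm => hg (by simpa using inv_mem hm)) e he0 he
    have hμ1 : (μ : F) = 1 := by
      have := hinv e
      rw [hfix] at this
      exact mul_right_cancel₀ hPe (this.symm.trans (one_mul _).symm)
    obtain ⟨y, hey, hsy⟩ := exists_sep hQ he0 (w := el s) fun d hd => by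
      have h' : comb e v a c ![0, 0, s.1, s.2] = comb e v a c ![d, 0, 0, 0] := by
        simp [comb]
        exact hd
      have k2 := congrFun (hcinj h') 2
      have k3 := congrFun (hcinj h') 3
      simp at k2 k3
      exact hs (by simp [el, k2, k3])
    have hy : (E s : Matrix ι ι F) *ᵥ y = y + (-1 : F) • e := by
      rw [eichlerGL_mulVec, hey, hsy]
      simp [sub_eq_add_neg]
    have h1 := hinv (y + e)
    have h2' := hinv y
    simp only [mulVec_add, hy, hfix, hμ1, one_mul, mulVec_smul] at h1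
    rw [hy, hμ1, one_mul, mulVec_add, mulVec_smul] at h2'
    simp only [QuadraticMap.map_add (⇑Q), QuadraticMap.map_smul, polar_add_left, polar_smul_left,
      polar_smul_right, Orth.polar_self_eq, smul_eq_mul] at h1 h2'
    refine mul_ne_zero h2 hPe ?_
    linear_combination h2' - h1
  have hΦ : Function.Injective Φ := by
    rintro ⟨_ | p, i⟩ ⟨_ | r, j⟩ h <;> have h' := congrArg Subtype.val h <;> simp only [Φ, Option.elim] at h'
    · rw [hσinj h']
    · exact absurd h'.symm (hEg r j i)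
    · exact absurd h' (hEg p i j)
    · rcases eq_or_ne p r with rfl | hpr
      · have := congrArg (((E p * g)⁻¹ : GL ι F) : Matrix ι ι F).mulVec h'
        simp only [inv_mulVec] at this
        rw [hσinj this]
      · exact absurd h' (hsame p r i j hpr)
  have hcard := Fintype.card_le_of_injective Φ hΦ
  have hsub : Fintype.card {x : ι → F // x ≠ 0} + 1 = Fintype.card F ^ 4 := by
    rw [Fintype.card_subtype_compl, Fintype.card_subtype_eq, Fintype.card_fun, h4]
    exact Nat.succ_pred_eq_of_pos (pow_pos Fintype.card_pos _)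
  simp only [Fintype.card_prod, Fintype.card_option, Fintype.card_units] at hcard
  obtain ⟨m, hm⟩ : ∃ m, Fintype.card F = m + 2 :=
    ⟨_, (Nat.sub_add_cancel Fintype.one_lt_card).symm⟩
  rw [hm] at hcard hsub
  simp only [show m + 2 - 1 = m + 1 by omega] at hcard
  nlinarith

omit hM in
/-- The similitudes in `SL₄` are maximal. -/
theorem isMaximalIn_quadSimilarity_four [Finite F] :
    Cfsg.Geo.IsMaximalIn (Cfsg.Geo.specialLinear ι F)
      (Cfsg.Geo.quadSimilarityGroup ⇑Q ⊓ Cfsg.Geo.specialLinear ι F) :=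
  isMaximalIn_of_full hQ h2 (by omega) fun H hMH hHS g hgH hg => by
    obtain ⟨g', hg'H, hg', u, hu0, hu, hp⟩ := exists_element_common_zero hQ h2 h4 hMH hgH hg
    obtain ⟨w, hw0, hR⟩ := root_of_common_zero hQ h2 h4 hMH hHS hg'H hg' hu0 hu hp
    obtain ⟨x, a, hx0, hx, ha, hR'⟩ := aniso_of_lines hQ h2 h4 hMH fun y hy0 hy =>
      lines_all hQ h2 h4 hMH hu0 hu (line_of_root hQ h2 h4 hMH hu0 hu hw0 hR) hy0 hy
    exact ⟨x, hx0, hx, full_of_aniso hQ h2 h4 hMH hx0 hx ha hR'⟩

end Cfsg.Agent.Lib.FormMax.OrthSL
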